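import Cfsg.Agent.FGSA.ClassCount
import Cfsg.Agent.Char.Linear
import Cfsg.Agent.Char.DegreeSums
import Cfsg.Agent.ZStar.Final
import Cfsg.Agent.Kinf.CentricSylow
import Cfsg.Agent.DGroup.Fusion
import Cfsg.Agent.GWApps.Tools
import Cfsg.Agent.S1939

/-!
# Counting classes of 2-elements: weights on fibres, the commutator bound, weakly closed elements
-/

set_option autoImplicit false
set_option linter.style.haveILetI false
set_option linter.unusedSectionVars false

namespace CfsgLib.ManyTwoClasses

open Subgroup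

universe u

section Fibres

variable {α β : Type*} [Fintype α] [Finite β] (f : α → β)

/-- The size of the fibre of `f` through `a`. -/
noncomputable def fib (a : α) : ℕ := Nat.card {a' : α // f a' = f a}

theorem le_fib {a : α} (s : Finset α) (h : ∀ x ∈ s, f x = f a) : s.card ≤ fib f a := by
  classical
  rw [fib, Nat.card_eq_fintype_card, Fintype.card_subtype]
  exact Finset.card_le_card fun x hx => Finset.mem_filter.2 ⟨Finset.mem_univ x, h x hx⟩

theorem one_le_fib (a : α) : 1 ≤ fib f a := by
  have h := le_fib f (a := a) {a} (by simp)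
  simpa using h

/-- Weights covering every fibre bound the size of the image. -/
theorem mul_card_le_sum (hf : Function.Surjective f) (N : ℕ) (w : α → ℕ)
    (h : ∀ a, N ≤ w a * fib f a) : N * Nat.card β ≤ ∑ a, w a := by
  classical
  haveI := Fintype.ofFinite β
  rw [← Finset.sum_fiberwise Finset.univ f w, Nat.card_eq_fintype_card, mul_comm,
    ← Finset.card_univ, ← smul_eq_mul, ← Finset.sum_const]
  refine Finset.sum_le_sum fun b _ => ?_
  set s := Finset.univ.filter fun a => f a = b with hs
  obtain ⟨a, ha⟩ := hf b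
  have hpos : 0 < s.card := Finset.card_pos.2 ⟨a, by simp [hs, ha]⟩
  refine Nat.le_of_mul_le_mul_left ?_ hpos
  rw [Finset.mul_sum]
  refine (Finset.card_nsmul_le_sum s _ N fun x hx => ?_).trans_eq' (smul_eq_mul ..).symm
  have hx' : f x = b := (Finset.mem_filter.1 hx).2
  have : fib f x = s.card := by
    rw [fib, Nat.card_eq_fintype_card, Fintype.card_subtype, hs, hx']
  rw [mul_comm, ← this]
  exact h x

/-- Weights inside every fibre are bounded by the size of the image. -/
theorem sum_le_mul_card (N : ℕ) (v : α → ℕ) (h : ∀ a, v a * fib f a ≤ N) :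
    ∑ a, v a ≤ N * Nat.card β := by
  classical
  haveI := Fintype.ofFinite β
  rw [← Finset.sum_fiberwise Finset.univ f v, Nat.card_eq_fintype_card, mul_comm,
    ← Finset.card_univ, ← smul_eq_mul, ← Finset.sum_const]
  refine Finset.sum_le_sum fun b _ => ?_
  set s := Finset.univ.filter fun a => f a = b with hs
  rcases s.eq_empty_or_nonempty with he | hne
  · simp [he]
  refine Nat.le_of_mul_le_mul_left ?_ (Finset.card_pos.2 hne)
  rw [Finset.mul_sum]
  refine (Finset.sum_le_card_nsmul s _ N fun x hx => ?_).trans_eq (smul_eq_mul ..)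
  have hx' : f x = b := (Finset.mem_filter.1 hx).2
  have : fib f x = s.card := by
    rw [fib, Nat.card_eq_fintype_card, Fintype.card_subtype, hs, hx']
  rw [mul_comm, ← this]
  exact h x

end Fibres

/-- `4 k(G) ≤ |G| + 3 [G : G']`. -/
theorem four_mul_classes_le (G : Type u) [Group G] [Finite G] :
    4 * Nat.card (ConjClasses G) ≤ Nat.card G + 3 * (commutator G).index := by
  classical
  have hsum : ∑ χ ∈ Char.irrFinset G, Char.cdeg χ ^ 2 = Nat.card G := by
    have h := Char.sum_degree_sq (G := G)
    rw [Finset.sum_congr rfl fun χ hχ => by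
      rw [Char.irr_apply_one_eq_cdeg (Char.mem_irrFinset.1 hχ)]] at h
    exact_mod_cast h
  have hlin : ((Char.irrFinset G).filter fun χ => Char.cdeg χ = 1).card = (commutator G).index := by
    rw [← Char.card_linear (G := G)]
    haveI := Char.finite_irrCharacter G
    haveI := Fintype.ofFinite {χ : Cfsg.IrrCharacter G // (χ : G → ℂ) 1 = 1}
    rw [Nat.card_eq_fintype_card, ← Finset.card_univ]
    symm
    refine Finset.card_bij (fun χ _ => ((χ.1 : Cfsg.IrrCharacter G) : G → ℂ))
      (fun χ _ => ?_) (fun a _ b _ h => Subtype.ext (Subtype.ext h)) fun χ hχ => ?_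
    · refine Finset.mem_filter.2 ⟨Char.mem_irrFinset.2 χ.1.2, ?_⟩
      have h := Char.irr_apply_one_eq_cdeg χ.1.2
      rw [χ.2] at h
      exact_mod_cast h.symm
    · obtain ⟨hi, h1⟩ := Finset.mem_filter.1 hχ
      have hi' := Char.mem_irrFinset.1 hi
      exact ⟨⟨⟨χ, hi'⟩, show χ 1 = 1 by rw [Char.irr_apply_one_eq_cdeg hi', h1, Nat.cast_one]⟩,
        Finset.mem_univ _, rfl⟩
  calc 4 * Nat.card (ConjClasses G) = ∑ _χ ∈ Char.irrFinset G, 4 := by
        rw [← Char.card_irr_eq_card_conjClasses, Char.card_irr, Finset.sum_const, smul_eq_mul,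
          mul_comm]
    _ ≤ ∑ χ ∈ Char.irrFinset G, (Char.cdeg χ ^ 2 + if Char.cdeg χ = 1 then 3 else 0) := by
        refine Finset.sum_le_sum fun χ hχ => ?_
        have h0 := Char.cdeg_pos (Char.mem_irrFinset.1 hχ)
        split_ifs with h
        · simp [h]
        · nlinarith [show 2 ≤ Char.cdeg χ by omega]
    _ = _ := by
        rw [Finset.sum_add_distrib, hsum, ← Finset.sum_filter, Finset.sum_const, smul_eq_mul, hlin,
          mul_comm]

variable {G : Type u} [Group G] [Finite G]

theorem odd_pPrimeCore (X : Type u) [Group X] [Finite X] : Odd (Nat.card (Cfsg.pPrimeCore 2 X)) :=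
  Nat.coprime_two_right.1 (CfsgLib.Solvable.coprime_card_pPrimeCore (G := X) 2)

/-- Without odd core a normal subgroup of odd index over a central 2-subgroup is that subgroup. -/
theorem le_of_central_two (hO : Cfsg.oddCore G = ⊥) {Z K : Subgroup G} [K.Normal]
    (hZ : IsPGroup 2 Z) (hZc : Z ≤ center G) (hZK : Z ≤ K) (hodd : Odd (Z.subgroupOf K).index) :
    K ≤ Z := by
  haveI : Fact (Nat.Prime 2) := ⟨Nat.prime_two⟩
  let T : Sylow 2 K := (hZ.of_equiv (subgroupOfEquivOfLe hZK).symm).toSylow hodd.not_two_dvd_nat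
  have hT : (T : Subgroup K) ≤ center K := fun z hzm => mem_center_iff.2 fun y =>
    Subtype.ext (mem_center_iff.1 (hZc hzm) y)
  haveI : (Cfsg.pPrimeCore 2 K).Characteristic := characteristic_iff_map_le.2 fun φ => by
    refine DGroup.le_oddCore (Normal.map inferInstance _ φ.surjective) ?_
    rw [card_map_of_injective (show Function.Injective φ.toMonoidHom from φ.injective)]
    exact odd_pPrimeCore K
  have hbot : Cfsg.pPrimeCore 2 K = ⊥ := by
    refine (Subgroup.map_eq_bot_iff_of_injective _ K.subtype_injective).1 (le_bot_iff.1 (hO ▸ ?_))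
    exact DGroup.le_oddCore inferInstance
      (by rw [card_map_of_injective K.subtype_injective]; exact odd_pPrimeCore K)
  have htop := Kinf.sup_pPrimeCore_of_central T hT
  rw [hbot, sup_bot_eq] at htop
  exact fun x hx => (htop.symm ▸ mem_top _ : (⟨x, hx⟩ : K) ∈ (T : Subgroup K))

/-- A weakly closed element of a Sylow 2-subgroup is central when there is no odd core. -/
theorem central_of_weakly_closed (hO : Cfsg.oddCore G = ⊥) (S : Sylow 2 G) :
    ∀ (k : ℕ) (a : G), a ^ 2 ^ k = 1 → a ∈ (S : Subgroup G) →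
      (∀ g : G, g * a * g⁻¹ ∈ (S : Subgroup G) → g * a * g⁻¹ = a) → a ∈ center G := by
  haveI : Fact (Nat.Prime 2) := ⟨Nat.prime_two⟩
  intro k
  induction k with
  | zero =>
    intro a ha _ _
    rw [pow_zero, pow_one] at ha
    rw [ha]; exact one_mem _
  | succ k ih =>
    intro a ha haS hwc
    have hz : a * a ∈ center G := ih (a * a) (by rw [← sq, ← pow_mul, ← pow_succ']; exact ha)
      (mul_mem haS haS) fun g hg => by
        have h := Cfsg.Agent.S1939.result S a haS hwc 2 g (by rwa [sq])
        rwa [sq] at h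
    set Z := zpowers (a * a)
    have hZc : Z ≤ center G := zpowers_le.2 hz
    have hZS : Z ≤ (S : Subgroup G) := zpowers_le.2 (mul_mem haS haS)
    haveI : Z.Normal := ⟨fun z hzm g => by
      rwa [mem_center_iff.1 (hZc hzm) g, mul_inv_cancel_right]⟩
    by_cases haZ : a ∈ Z
    · exact hZc haZ
    set π := QuotientGroup.mk' Z
    have hπ : Function.Surjective π := QuotientGroup.mk'_surjective Z
    have hord : orderOf (π a) = 2 := Invol.orderOf_eq_two
      (by rw [← map_mul]; exact (QuotientGroup.eq_one_iff _).2 (mem_zpowers _))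
      fun h => haZ ((QuotientGroup.eq_one_iff a).1 h)
    obtain ⟨N, hNn, hNodd, hNc⟩ := ZStar.zstar_of_sylow (S.mapSurjective hπ) hord (fun q hq => by
      obtain ⟨g, rfl⟩ := hπ q
      obtain ⟨s, hs, hse⟩ := hq
      have hse' : π s = π (g * a * g⁻¹) := by rw [map_mul, map_mul, map_inv]; exact hse
      have hmem : g * a * g⁻¹ ∈ (S : Subgroup G) := by
        have h1 : s⁻¹ * (g * a * g⁻¹) ∈ Z := QuotientGroup.eq.1 hse'
        simpa using mul_mem hs (hZS h1)
      rw [← map_inv, ← map_mul, ← map_mul, hwc g hmem])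
    haveI := hNn
    set K := N.comap π
    have hZK : Z ≤ K := fun z hzm => by
      show π z ∈ N
      rw [show π z = 1 from (QuotientGroup.eq_one_iff z).2 hzm]; exact one_mem _
    have hidx : (Z.subgroupOf K).index = Nat.card N := by
      have h := relIndex_ker K π
      rw [map_comap_eq_self_of_surjective hπ, show π.ker = Z from QuotientGroup.ker_mk' Z] at h
      exact h
    refine mem_center_iff.2 fun g => ?_
    have hcK : a * g * a⁻¹ * g⁻¹ ∈ K := by
      show π _ ∈ N
      simpa using hNc (π g)
    have hcZ : a * g * a⁻¹ * g⁻¹ ∈ Z :=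
      le_of_central_two hO (S.2.to_le hZS) hZc hZK (by rw [hidx]; exact hNodd) hcK
    have h1 : g * a⁻¹ * g⁻¹ ∈ (S : Subgroup G) := by
      have := mul_mem (inv_mem haS) (hZS hcZ)
      rwa [show a⁻¹ * (a * g * a⁻¹ * g⁻¹) = g * a⁻¹ * g⁻¹ by group] at this
    have h2 := hwc g (by simpa [mul_assoc] using inv_mem h1)
    exact mul_inv_eq_iff_eq_mul.1 h2

end CfsgLib.ManyTwoClasses
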