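import Cfsg.Agent.ManyTwoClasses.Fusion
import Cfsg.Agent.Invol.DihedralFusion
import Cfsg.Agent.GWApps.Dihedral
import Cfsg.Agent.GWApps.QDCentralizer
import Cfsg.Agent.GW.Top.Shape
import Cfsg.Agent.GW.Top.Statement
import Cfsg.Agent.Classical.SmallPSL
import Cfsg.Agent.S2119

/-!
# Exactly `|P|/2` classes of 2-elements: the shape of `G/Z(G)`
-/

set_option autoImplicit false
set_option linter.style.haveILetI false
set_option linter.unusedSectionVars false

namespace CfsgLib.ManyTwoClasses

open Subgroup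

universe u

section Few

variable {Q : Type u} [Group Q] [Finite Q]

theorem no_index_two_of_simple {N : Type*} [Group N] [Finite N] [IsSimpleGroup N]
    (hN : ¬ IsMulCommutative N) (H : Subgroup N) : H.index ≠ 2 := fun h => by
  haveI := normal_of_index_eq_two h
  rcases (inferInstance : H.Normal).eq_bot_or_eq_top with e | e <;> subst e
  · rw [index_bot] at h
    haveI : Fact (Nat.Prime 2) := ⟨Nat.prime_two⟩
    haveI := isCyclic_of_prime_card h
    exact hN inferInstance
  · rw [index_top] at h; omega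

/-- A dihedral Sylow 2-subgroup of order 8 and a normal subgroup of odd index without a subgroup of
index two: at most three classes of 2-elements. -/
theorem classes_le_three (T : Sylow 2 Q) (e : (T : Subgroup Q) ≃* DihedralGroup 4) {N : Subgroup Q}
    (hidx : Odd N.index) (hno : ∀ H : Subgroup N, H.index ≠ 2) :
    Nat.card (FGSA.pClasses 2 Q) ≤ 3 := by
  classical
  haveI : Fact (Nat.Prime 2) := ⟨Nat.prime_two⟩
  obtain ⟨D⟩ := DihFour.exists_data T.2 (by norm_num) e
  have hno' : ∀ H : Subgroup Q, H.index ≠ 2 := by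
    intro H hH
    haveI := normal_of_index_eq_two hH
    have h2 : (H.subgroupOf N).index ∣ H.index := relIndex_dvd_index_of_normal H N
    rw [hH, Nat.dvd_prime Nat.prime_two] at h2
    rcases h2 with h | h
    · have := index_dvd_of_le (subgroupOf_eq_top.1 (index_eq_one.1 h))
      rw [hH] at this
      exact Nat.not_even_iff_odd.2 hidx (even_iff_two_dvd.2 this)
    · exact hno _ h
  have hh : D.h = 2 := by
    have h := D.card_eq
    rw [Nat.card_congr e.toEquiv, DihedralGroup.nat_card] at h
    omega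
  let f : Fin 3 → FGSA.pClasses 2 Q :=
    ![classMap T 1, classMap T ⟨D.z, D.z_mem⟩, classMap T ⟨D.r, D.rS⟩]
  have hf : Function.Surjective f := by
    intro c
    obtain ⟨⟨x, hx⟩, rfl⟩ := classMap_surjective T c
    by_cases hx1 : x = 1
    · exact ⟨0, congrArg (classMap T) (Subtype.ext hx1.symm)⟩
    by_cases hx2 : x * x = 1
    · refine ⟨1, (classMap_eq_iff T).2 (IsConj.symm ?_)⟩
      refine D.all_conj_of_no_index_two (Nat.odd_iff.2 (Nat.two_dvd_ne_zero.1 T.not_dvd_index))
        (fun a ha => ?_) hno' (Invol.orderOf_eq_two hx2 hx1)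
      obtain ⟨U, hU⟩ := (IsPGroup.of_card (n := 1) (by rw [Nat.card_zpowers, ha, pow_one]) :
        IsPGroup 2 (zpowers a)).exists_le_sylow
      obtain ⟨g, hg⟩ := MulAction.exists_smul_eq Q U T
      refine ⟨g, ?_⟩
      rw [← hg]
      exact smul_mem_pointwise_smul a (MulAut.conj g) (U : Subgroup Q) (hU (mem_zpowers a))
    refine ⟨2, ?_⟩
    obtain ⟨i, rfl | rfl⟩ := D.cases x hx
    · have hr4 : D.r ^ (4 : ℤ) = 1 := by
        rw [show (4 : ℤ) = ((4 : ℕ) : ℤ) from rfl, zpow_natCast,
          show (4 : ℕ) = orderOf D.r by rw [D.hr, hh], pow_orderOf_eq_one]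
      have h0 := Int.emod_nonneg i (show (4 : ℤ) ≠ 0 by norm_num)
      have h1 := Int.emod_lt_of_pos i (show (0 : ℤ) < 4 by norm_num)
      have hmod : D.r ^ i = D.r ^ (i % 4) := zpow_eq_zpow_emod i hr4
      rcases (show i % 4 = 0 ∨ i % 4 = 1 ∨ i % 4 = 2 ∨ i % 4 = 3 by omega) with h | h | h | h <;>
        rw [h] at hmod
      · exact absurd (by rw [hmod, zpow_zero]) hx1
      · exact congrArg (classMap T) (Subtype.ext ((zpow_one D.r).symm.trans hmod.symm))
      · exact absurd (by rw [hmod, ← zpow_add]; exact hr4) hx2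
      · refine (classMap_eq_iff T).2 (isConj_iff.2 ⟨D.s, ?_⟩)
        show D.s * D.r * D.s⁻¹ = D.r ^ i
        refine D.hsr.trans ?_
        rw [hmod, inv_eq_iff_mul_eq_one, ← zpow_one_add]
        exact hr4
    · exact absurd (D.refl_sq i) hx2
  have := Nat.card_le_card_of_surjective f hf
  rwa [Nat.card_fin] at this

end Few

variable {G : Type u} [Group G] [Finite G] {P : Sylow 2 G}

theorem main (hO : Cfsg.pPrimeCore 2 G = ⊥)
    (hk : 2 * Nat.card (FGSA.pClasses 2 G) = Nat.card ↥(P : Subgroup G)) :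
    Nonempty (G ⧸ center G ≃* ↥(alternatingGroup (Fin 4))) ∨
    Nonempty (G ⧸ center G ≃* Equiv.Perm (Fin 4)) ∨
    ∃ S : Subgroup (G ⧸ center G), S.Normal ∧ IsSimpleGroup ↥S ∧ ¬ IsMulCommutative ↥S ∧
      centralizer (S : Set (G ⧸ center G)) = ⊥ ∧
      ∃ (F : Type) (_ : Field F) (_ : Fintype F), 3 < Fintype.card F ∧
        (Fintype.card F % 8 = 3 ∨ Fintype.card F % 8 = 5) ∧
        Nonempty (↥S ≃* Matrix.ProjectiveSpecialLinearGroup (Fin 2) F) := by
  classical
  haveI : Fact (Nat.Prime 2) := ⟨Nat.prime_two⟩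
  obtain ⟨T, n, hn, ⟨eT⟩, hcard⟩ := sylow_quot (P := P) hO hk
  have hTn : Nat.card ↥(T : Subgroup (G ⧸ center G)) = 2 * n :=
    (Nat.card_congr eT.toEquiv).trans DihedralGroup.nat_card
  have hmany : 2 * n ≤ 2 * Nat.card (FGSA.pClasses 2 (G ⧸ center G)) := by
    refine Nat.le_of_mul_le_mul_right ?_ (Nat.card_pos (α := center G))
    rw [← hTn, hcard, ← hk, mul_assoc, mul_comm (Nat.card (FGSA.pClasses 2 (G ⧸ center G)))]
    exact Nat.mul_le_mul_left 2 (classes_quot (P := P) hO hk)
  -- no large normal subgroup without a subgroup of index two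
  have hfew : ∀ N : Subgroup (G ⧸ center G), 8 ∣ Nat.card N → (∀ H : Subgroup N, H.index ≠ 2) → False := by
    intro N h8 hno
    have h8T : 8 ∣ Nat.card ↥(T : Subgroup (G ⧸ center G)) := by
      rw [T.card_eq_multiplicity]
      exact pow_dvd_pow 2 ((Nat.prime_two.pow_dvd_iff_le_factorization (k := 3) Nat.card_pos.ne').1
        (h8.trans (card_subgroup_dvd_card N)))
    rw [hTn] at h8T
    obtain rfl : n = 4 := by omega
    obtain ⟨a, ha⟩ := h8
    have hidx : Odd N.index := by
      have h1 := N.card_mul_index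
      have h2 := (T : Subgroup (G ⧸ center G)).card_mul_index
      rw [← h2, hTn, ha, mul_assoc] at h1
      have h3 : a * N.index = (T : Subgroup (G ⧸ center G)).index :=
        Nat.eq_of_mul_eq_mul_left (by norm_num) h1
      exact Nat.Odd.of_mul_right (h3 ▸ Nat.odd_iff.2 (Nat.two_dvd_ne_zero.1 T.not_dvd_index))
    have := classes_le_three T eT hidx hno
    omega
  rcases GWApps.dihedral_structure GW.Top.statement (oddCore_quot (P := P) hO hk) T eT with
    h2 | ⟨F, _, _, hodd, K, hK, ⟨eK⟩⟩ | h7
  · exact absurd h2 (not_isPGroup_quot (P := P) hO hk)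
  · set L := Matrix.ProjectiveSpecialLinearGroup (Fin 2) F
    have hc : center L = ⊥ := GW.Top.center_psl F hodd
    have hconj : Function.Injective (MulAut.conj : L →* MulAut L) := by
      refine (injective_iff_map_eq_one _).2 fun p hp => mem_bot.1 (hc ▸ mem_center_iff.2 fun x => ?_)
      exact (mul_inv_eq_iff_eq_mul.1 (DFunLike.congr_fun hp x)).symm
    by_cases h3 : Fintype.card F = 3
    · obtain ⟨e4⟩ := Linear.Small.nonempty_psl_two_three (F := F) h3
      by_cases hKe : (MulAut.conj : L →* MulAut L).range = K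
      · exact Or.inl ⟨eK.trans ((MulEquiv.subgroupCongr hKe.symm).trans
          ((MonoidHom.ofInjective hconj).symm.trans e4))⟩
      refine Or.inr (Or.inl ?_)
      let eA : Equiv.Perm (Fin 4) ≃* MulAut L := (MulEquiv.ofBijective _
        (Cfsg.Agent.S2119.result 4 le_rfl (by norm_num))).trans (MulAut.congr e4.symm)
      haveI : Finite (MulAut L) := Finite.of_equiv _ eA.toEquiv
      have hA : Nat.card (MulAut L) = 24 := by
        rw [← Nat.card_congr eA.toEquiv, Nat.card_perm, Nat.card_fin]; rfl
      have hR : Nat.card (MulAut.conj : L →* MulAut L).range = 12 := by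
        rw [Nat.card_congr (MonoidHom.ofInjective hconj).toEquiv.symm]
        have hcp := Linear.Small.card_psl_two (F := F) h3
        norm_num [-Nat.card_eq_fintype_card] at hcp
        show Nat.card (Matrix.ProjectiveSpecialLinearGroup (Fin 2) F) = 12
        omega
      have hKtop : K = ⊤ := by
        refine eq_top_of_card_eq K ?_
        have h1 := card_dvd_of_le hK
        have h2 := card_subgroup_dvd_card K
        have h3' : Nat.card (MulAut.conj : L →* MulAut L).range ≠ Nat.card K := fun h =>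
          hKe (eq_of_le_of_card_ge hK h.ge)
        have h4 : Nat.card K ≤ 24 := hA ▸ Nat.le_of_dvd Nat.card_pos h2
        rw [hR] at h1 h3'
        obtain ⟨j, hj⟩ := h1
        have hpos : 0 < Nat.card K := Nat.card_pos
        show Nat.card K = Nat.card (MulAut L)
        omega
      exact ⟨eK.trans ((MulEquiv.subgroupCongr hKtop).trans (topEquiv.trans eA.symm))⟩
    have hq4 : 4 ≤ Nat.card F := by
      have h2 : 1 < Fintype.card F := Fintype.one_lt_card
      obtain ⟨j, hj⟩ := hodd
      rw [Nat.card_eq_fintype_card]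
      omega
    haveI : IsSimpleGroup L := Linear.PSLTwo.isSimple (F := F) hq4
    let f : G ⧸ center G →* MulAut L := K.subtype.comp eK.toMonoidHom
    have hf : Function.Injective f := K.subtype_injective.comp eK.injective
    haveI : (MulAut.conj : L →* MulAut L).range.Normal := ⟨by
      rintro _ ⟨p, rfl⟩ φ
      exact ⟨φ p, by ext x; simp [MulAut.mul_apply]⟩⟩
    set S := (MulAut.conj : L →* MulAut L).range.comap f
    have hmap : S.map f = (MulAut.conj : L →* MulAut L).range :=
      map_comap_eq_self fun x hx => ⟨eK.symm ⟨x, hK hx⟩,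
        congrArg Subtype.val (eK.apply_symm_apply (⟨x, hK hx⟩ : K))⟩
    let eS : S ≃* L := (equivMapOfInjective S f hf).trans
      ((MulEquiv.subgroupCongr hmap).trans (MonoidHom.ofInjective hconj).symm)
    have hL : ¬ IsMulCommutative L := fun h => by
      haveI : Nontrivial L := IsSimpleGroup.toNontrivial
      obtain ⟨x, hx⟩ := exists_ne (1 : L)
      exact hx (mem_bot.1 (hc ▸ mem_center_iff.2 fun y => h.is_comm.comm y x))
    have hSsimple : IsSimpleGroup S := eS.isSimpleGroup
    have hSnc : ¬ IsMulCommutative S := fun h => hL ⟨⟨fun x y => eS.symm.injective (by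
      rw [map_mul, map_mul]; exact h.is_comm.comm _ _)⟩⟩
    have hcent : centralizer (S : Set (G ⧸ center G)) = ⊥ := by
      refine eq_bot_iff.2 fun g hg => mem_bot.2 (hf ((map_one f).symm ▸
        GWApps.eq_one_of_commute_inner hc fun p => ?_))
      obtain ⟨q, hq, hqp⟩ := hmap.ge (⟨p, rfl⟩ : MulAut.conj p ∈ (MulAut.conj : L →* MulAut L).range)
      rw [← hqp, ← map_mul, ← map_mul]
      exact congrArg f (mem_centralizer_iff.1 hg q hq).symm
    refine Or.inr (Or.inr ⟨S, inferInstance, hSsimple, hSnc, hcent, F, inferInstance, inferInstance,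
      ?_, ?_, ⟨eS⟩⟩)
    · rw [Nat.card_eq_fintype_card] at hq4; omega
    by_contra h35
    replace h35 : ¬ (Fintype.card F % 8 = 3 ∨ Fintype.card F % 8 = 5) := h35
    refine hfew S ?_ fun H => ?_
    · rw [Nat.card_congr eS.toEquiv]
      obtain ⟨j, hj⟩ := hodd
      have hgcd : Nat.gcd 2 (Fintype.card F - 1) = 2 := Nat.gcd_eq_left (by omega)
      have hcp := Linear.Small.card_psl_two (F := F) rfl
      rw [hgcd] at hcp
      show 8 ∣ Nat.card (Matrix.ProjectiveSpecialLinearGroup (Fin 2) F)
      generalize Nat.card (Matrix.ProjectiveSpecialLinearGroup (Fin 2) F) = N at hcp ⊢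
      obtain ⟨m, hq | hq⟩ : ∃ m, Fintype.card F = 8 * m + 1 ∨ Fintype.card F = 8 * m + 7 :=
        ⟨Fintype.card F / 8, by omega⟩ <;> rw [hq] at hcp
      · rcases Nat.eq_zero_or_pos m with rfl | hm
        · rw [Nat.card_eq_fintype_card] at hq4; omega
        refine ⟨m * (8 * m + 1) * (4 * m + 1), Nat.eq_of_mul_eq_mul_left (show 0 < 16 * m by omega) ?_⟩
        have e1 : (8 * m + 1) ^ 2 - 1 = 16 * m * (4 * m + 1) := Nat.sub_eq_of_eq_add (by ring)
        have e2 : (8 * m + 1) ^ 2 - (8 * m + 1) = 8 * m * (8 * m + 1) := Nat.sub_eq_of_eq_add (by ring)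
        rw [e1, e2, Nat.add_sub_cancel] at hcp
        calc 16 * m * N = 2 * (8 * m * N) := by ring
          _ = _ := hcp
          _ = _ := by ring
      · refine ⟨(m + 1) * (8 * m + 7) * (4 * m + 3),
          Nat.eq_of_mul_eq_mul_left (show 0 < 2 * (8 * m + 6) by omega) ?_⟩
        have e1 : (8 * m + 7) ^ 2 - 1 = 16 * (m + 1) * (4 * m + 3) := Nat.sub_eq_of_eq_add (by ring)
        have e2 : (8 * m + 7) ^ 2 - (8 * m + 7) = (8 * m + 6) * (8 * m + 7) := Nat.sub_eq_of_eq_add (by ring)
        rw [e1, e2, show 8 * m + 7 - 1 = 8 * m + 6 by omega] at hcp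
        calc 2 * (8 * m + 6) * N = 2 * ((8 * m + 6) * N) := by ring
          _ = _ := hcp
          _ = _ := by ring
    · haveI := hSsimple
      exact no_index_two_of_simple hSnc H
  · exfalso
    obtain ⟨e7⟩ := h7
    haveI : IsSimpleGroup (alternatingGroup (Fin 7)) := alternatingGroup.isSimpleGroup (by simp)
    haveI : IsSimpleGroup (G ⧸ center G) := e7.isSimpleGroup
    refine hfew ⊤ ?_ fun H => ?_
    · rw [card_top, Nat.card_congr e7.toEquiv, nat_card_alternatingGroup, Nat.card_fin]
      norm_num [Nat.factorial]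
    · haveI : IsSimpleGroup (⊤ : Subgroup (G ⧸ center G)) := (topEquiv (G := G ⧸ center G)).isSimpleGroup
      refine no_index_two_of_simple (fun h => ?_) H
      haveI : Nontrivial (alternatingGroup (Fin 7)) := IsSimpleGroup.toNontrivial
      obtain ⟨x, hx⟩ := exists_ne (1 : alternatingGroup (Fin 7))
      refine hx ?_
      have hx' : x ∈ center (alternatingGroup (Fin 7)) := mem_center_iff.2 fun y => by
        apply (e7.symm.trans topEquiv.symm).injective
        rw [map_mul, map_mul]
        exact h.is_comm.comm _ _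
      rwa [alternatingGroup.center_eq_bot (by simp), mem_bot] at hx'

end CfsgLib.ManyTwoClasses
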