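import Cfsg.Agent.ManyTwoClasses.Count
import Cfsg.Agent.FGSA.TwoClassCount
import Cfsg.Agent.KGroup.CharP
import Cfsg.Agent.SectRankFour.Extraspecial
import Cfsg.Agent.Invol.DihedralFour
import Cfsg.Agent.TwoNilCent.Basic

/-!
# Exactly `|P|/2` classes of 2-elements: the Sylow 2-subgroup modulo the centre is dihedral
-/

set_option autoImplicit false
set_option linter.style.haveILetI false
set_option linter.unusedSectionVars false

namespace CfsgLib.ManyTwoClasses

open Subgroup

universe u

variable {G : Type u} [Group G] [Finite G] (P : Sylow 2 G)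

/-- A surjection on classes. -/
noncomputable def classMap : ↥(P : Subgroup G) → FGSA.pClasses 2 G :=
  haveI : Fact (Nat.Prime 2) := ⟨Nat.prime_two⟩
  FGSA.toPClasses P

theorem classMap_surjective : Function.Surjective (classMap P) := by
  haveI : Fact (Nat.Prime 2) := ⟨Nat.prime_two⟩
  exact FGSA.toPClasses_surjective P

theorem classMap_eq_iff {x y : ↥(P : Subgroup G)} :
    classMap P x = classMap P y ↔ IsConj (x : G) y := by
  rw [classMap, Subtype.ext_iff]
  exact ConjClasses.mk_eq_mk_iff_isConj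

theorem classMap_conj {x y : ↥(P : Subgroup G)} {g : G} (h : g * (y : G) * g⁻¹ = x) :
    classMap P x = classMap P y :=
  (classMap_eq_iff P).2 (isConj_iff.2 ⟨g, h⟩).symm

/-- An element normalising a Sylow 2-subgroup is a product of one of it and one of odd order. -/
theorem exists_odd_part {n : G} (hn : n ∈ normalizer ((P : Subgroup G) : Set G)) :
    ∃ a ∈ (P : Subgroup G), ∃ b ∈ normalizer ((P : Subgroup G) : Set G),
      Odd (orderOf b) ∧ n = a * b := by
  haveI : Fact (Nat.Prime 2) := ⟨Nat.prime_two⟩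
  obtain ⟨k, m, hm, hkm⟩ := Nat.exists_eq_two_pow_mul_odd (orderOf_pos n).ne'
  obtain ⟨u, v, huv⟩ : IsCoprime ((2 ^ k : ℕ) : ℤ) (m : ℤ) :=
    Int.isCoprime_iff_nat_coprime.2 (by
      simpa using (Nat.coprime_two_left.2 hm).pow_left k)
  have hno : n ^ ((2 ^ k * m : ℕ) : ℤ) = 1 := by rw [zpow_natCast, ← hkm, pow_orderOf_eq_one]
  have hone : ∀ i : ℤ, n ^ (((2 ^ k * m : ℕ) : ℤ) * i) = 1 := fun i => by rw [zpow_mul, hno, one_zpow]
  set a := n ^ ((m : ℤ) * v) with ha
  have ha2 : a ^ 2 ^ k = 1 := by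
    rw [ha, ← zpow_natCast, ← zpow_mul,
      show (m : ℤ) * v * ((2 ^ k : ℕ) : ℤ) = ((2 ^ k * m : ℕ) : ℤ) * v by push_cast; ring]
    exact hone v
  have hpa : IsPGroup 2 (zpowers a) := by
    obtain ⟨j, -, hj⟩ := (Nat.dvd_prime_pow Nat.prime_two).1 (orderOf_dvd_of_pow_eq_one ha2)
    exact IsPGroup.of_card (n := j) (by rw [Nat.card_zpowers, hj])
  refine ⟨a, (P.3 (hpa.to_sup_of_normal_right' P.2 (zpowers_le.2 (zpow_mem hn _))) le_sup_right).le
    (mem_sup_left (mem_zpowers a)), n ^ (((2 ^ k : ℕ) : ℤ) * u), zpow_mem hn _, ?_, ?_⟩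
  · refine hm.of_dvd_nat (orderOf_dvd_of_pow_eq_one ?_)
    rw [← zpow_natCast, ← zpow_mul,
      show ((2 ^ k : ℕ) : ℤ) * u * (m : ℤ) = ((2 ^ k * m : ℕ) : ℤ) * u by push_cast; ring]
    exact hone u
  · rw [ha, ← zpow_add,
      show (m : ℤ) * v + ((2 ^ k : ℕ) : ℤ) * u = 1 by rw [← huv]; ring, zpow_one]

/-- A sum of indicator weights over a subgroup. -/
theorem sum_ite_mem [Fintype ↥(P : Subgroup G)] (H : Subgroup G) (hH : H ≤ (P : Subgroup G))
    [DecidablePred (fun x : ↥(P : Subgroup G) => (x : G) ∈ H)] (c : ℕ) :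
    ∑ x : ↥(P : Subgroup G), (if (x : G) ∈ H then c else 0) = c * Nat.card H := by
  rw [← Finset.sum_filter, Finset.sum_const, smul_eq_mul, mul_comm,
    ← Nat.card_congr (subgroupOfEquivOfLe hH).toEquiv]
  congr 1
  rw [← Fintype.card_subtype, ← Nat.card_eq_fintype_card]
  rfl

theorem eq_of_sq_odd {g x : G} (hg : Odd (orderOf g)) (h : g * (g * x * g⁻¹) * g⁻¹ = x) :
    g * x * g⁻¹ = x := by
  obtain ⟨o, ho⟩ := hg
  have h2 : Commute (g * g) x := mul_inv_eq_iff_eq_mul.1 (by rw [mul_inv_rev]; simpa [mul_assoc] using h)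
  have h' := h2.pow_left (o + 1)
  rw [← pow_two, ← pow_mul, show 2 * (o + 1) = orderOf g + 1 by omega, pow_succ,
    pow_orderOf_eq_one, one_mul] at h'
  rw [h'.eq, mul_inv_cancel_right]

/-- The index of a subgroup of a 2-subgroup is not three. -/
theorem card_le_two_of_lt_four {A B : Subgroup G} (hB : IsPGroup 2 B) (hAB : A ≤ B)
    (h : Nat.card B < 4 * Nat.card A) : Nat.card B ≤ 2 * Nat.card A := by
  haveI : Fact (Nat.Prime 2) := ⟨Nat.prime_two⟩
  obtain ⟨i, hi⟩ := IsPGroup.iff_card.1 hB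
  obtain ⟨j, hj⟩ := IsPGroup.iff_card.1 (hB.to_le hAB)
  rw [hi, hj] at h ⊢
  have h4 : 2 ^ i < 2 ^ (j + 2) := by rw [pow_add]; omega
  have h5 : i < j + 2 := (Nat.pow_lt_pow_iff_right (by norm_num)).1 h4
  calc 2 ^ i ≤ 2 ^ (j + 1) := Nat.pow_le_pow_right two_pos (by omega)
    _ = _ := by rw [pow_succ, mul_comm]

variable {P} (hO : Cfsg.pPrimeCore 2 G = ⊥)
  (hk : 2 * Nat.card (FGSA.pClasses 2 G) = Nat.card ↥(P : Subgroup G))

include hO

theorem isPGroup_center : IsPGroup 2 (center G) := by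
  haveI : Fact (Nat.Prime 2) := ⟨Nat.prime_two⟩
  intro x
  obtain ⟨k, m, hm, hkm⟩ := Nat.exists_eq_two_pow_mul_odd (orderOf_pos (x : G)).ne'
  refine ⟨k, Subtype.ext ?_⟩
  set y := (x : G) ^ 2 ^ k
  have hy : y ∈ center G := pow_mem x.2 _
  haveI : (zpowers y).Normal := ⟨fun z hz g => by
    rwa [mem_center_iff.1 (zpowers_le.2 hy hz) g, mul_inv_cancel_right]⟩
  have hodd : Odd (Nat.card (zpowers y)) := by
    rw [Nat.card_zpowers]
    exact hm.of_dvd_nat (orderOf_dvd_of_pow_eq_one (by rw [← pow_mul, ← hkm, pow_orderOf_eq_one]))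
  have hbot : zpowers y ≤ ⊥ := hO ▸ CfsgLib.Solvable.le_pPrimeCore 2 inferInstance
    (Nat.coprime_two_right.2 hodd)
  exact mem_bot.1 (hbot (mem_zpowers y))

theorem center_le : center G ≤ (P : Subgroup G) := by
  haveI : Fact (Nat.Prime 2) := ⟨Nat.prime_two⟩
  exact CfsgLib.CharP.le_sylow_of_le_normalizer P (isPGroup_center hO)
    (le_top.trans (normalizer_eq_top_iff.2 inferInstance).ge)

theorem center_le_cent : center G ≤ (P : Subgroup G) ⊓ centralizer ((P : Subgroup G) : Set G) :=
  le_inf (center_le hO) fun z hz => mem_centralizer_iff.2 fun y _ => mem_center_iff.1 hz y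

theorem isPGroup_of_complement {X : Type u} [Group X] [Finite X] (hX : Cfsg.pPrimeCore 2 X = ⊥)
    (h : Cfsg.HasNormalPComplement 2 X) : IsPGroup 2 X :=
  (TwoNilCent.isPGroup_quot h).of_equiv
    ((QuotientGroup.quotientMulEquivOfEq hX).trans QuotientGroup.quotientBot)

theorem not_isolated_central {x : G} (hx : x ∈ (P : Subgroup G)) (hxc : x ∉ center G) :
    ∃ w ∈ (P : Subgroup G), w ≠ x ∧ ∃ g : G, g * x * g⁻¹ = w := by
  by_contra hcon
  push Not at hcon
  obtain ⟨k, hk'⟩ := P.2 ⟨x, hx⟩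
  exact hxc (central_of_weakly_closed hO P k x (congrArg Subtype.val hk') hx fun g hg =>
    by_contra fun hne => hcon _ hg hne g rfl)

/-- Two elements of the centre of `P` conjugate in `G` but different give three of a class. -/
theorem three_of_fused {x : G} (hx : x ∈ (P : Subgroup G) ⊓ centralizer ((P : Subgroup G) : Set G))
    {g : G} (hw : g * x * g⁻¹ ∈ (P : Subgroup G) ⊓ centralizer ((P : Subgroup G) : Set G))
    (hne : g * x * g⁻¹ ≠ x) :
    ∃ b ∈ normalizer ((P : Subgroup G) : Set G), b * x * b⁻¹ = g * x * g⁻¹ ∧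
      b * (b * x * b⁻¹) * b⁻¹ ≠ x := by
  haveI : Fact (Nat.Prime 2) := ⟨Nat.prime_two⟩
  obtain ⟨n, hn, hnx⟩ := Sylow.conj_eq_normalizer_conj_of_mem_centralizer P x g⁻¹
    hx.2 (by rw [inv_inv]; exact hw.2)
  rw [inv_inv] at hnx
  obtain ⟨a, haP, b, hb, hodd, hab⟩ := exists_odd_part P (inv_mem hn)
  have hbx : b * x * b⁻¹ ∈ (P : Subgroup G) ⊓ centralizer ((P : Subgroup G) : Set G) := by
    refine ⟨(mem_normalizer_iff.1 hb x).1 hx.1, mem_centralizer_iff.2 fun p hp => ?_⟩
    have hp' : b⁻¹ * p * b ∈ (P : Subgroup G) := (mem_normalizer_iff''.1 hb p).1 hp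
    have h := mem_centralizer_iff.1 hx.2 _ hp'
    calc p * (b * x * b⁻¹) = b * (b⁻¹ * p * b * x) * b⁻¹ := by group
      _ = b * x * b⁻¹ * p := by rw [h]; group
  have e : b * x * b⁻¹ = g * x * g⁻¹ := by
    calc b * x * b⁻¹ = a * (b * x * b⁻¹) * a⁻¹ := by
          rw [mem_centralizer_iff.1 hbx.2 a haP, mul_inv_cancel_right]
      _ = (a * b) * x * (a * b)⁻¹ := by group
      _ = g * x * g⁻¹ := by rw [← hab, hnx]; group
  exact ⟨b, hb, e, fun h => hne (e ▸ eq_of_sq_odd hodd h)⟩

omit hO in
theorem two_mul_classes_le_of_comm :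
    2 * Nat.card ↥(commutator ↥(P : Subgroup G)) ≤ 4 ∨
      4 * Nat.card (ConjClasses ↥(P : Subgroup G)) < 2 * Nat.card ↥(P : Subgroup G) := by
  rcases le_or_gt (2 * Nat.card ↥(P : Subgroup G))
    (4 * Nat.card (ConjClasses ↥(P : Subgroup G))) with h | h
  · refine Or.inl ?_
    have h1 := four_mul_classes_le ↥(P : Subgroup G)
    have h2 := (commutator ↥(P : Subgroup G)).card_mul_index
    have hpos : 0 < (commutator ↥(P : Subgroup G)).index :=
      Nat.pos_of_ne_zero Subgroup.index_ne_zero_of_finite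
    have h3 : Nat.card ↥(commutator ↥(P : Subgroup G)) ≤ 3 := by nlinarith
    haveI : Fact (Nat.Prime 2) := ⟨Nat.prime_two⟩
    obtain ⟨j, hj⟩ := IsPGroup.iff_card.1 (P.2.to_subgroup (commutator ↥(P : Subgroup G)))
    rw [hj] at h3 ⊢
    rcases j with _ | _ | j
    · norm_num
    · norm_num
    · rw [pow_succ, pow_succ] at h3
      have := Nat.one_le_two_pow (n := j)
      omega
  · exact Or.inr h

include hk

omit hO in
theorem card_commutator_le : Nat.card ↥(commutator ↥(P : Subgroup G)) ≤ 2 := by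
  haveI : Fact (Nat.Prime 2) := ⟨Nat.prime_two⟩
  let g : ConjClasses ↥(P : Subgroup G) → FGSA.pClasses 2 G :=
    Quotient.lift (classMap P) fun a b (hab : IsConj a b) =>
      (classMap_eq_iff P).2 ((P : Subgroup G).subtype.map_isConj hab)
  have h1 : Nat.card (FGSA.pClasses 2 G) ≤ Nat.card (ConjClasses ↥(P : Subgroup G)) :=
    Nat.card_le_card_of_surjective g fun c => by
      obtain ⟨x, rfl⟩ := classMap_surjective P c
      exact ⟨ConjClasses.mk x, rfl⟩
  rcases two_mul_classes_le_of_comm (P := P) with h | h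
  · omega
  · omega

omit hO in
/-- A commutator that is not trivial, and the shape of the classes of `P`. -/
theorem exists_z {a₀ b₀ : G} (ha : a₀ ∈ (P : Subgroup G)) (hb : b₀ ∈ (P : Subgroup G))
    (hne : a₀ * b₀ ≠ b₀ * a₀) :
    ∃ z : G, z ∈ (P : Subgroup G) ∧ z ≠ 1 ∧ z * z = 1 ∧ z = a₀ * b₀ * a₀⁻¹ * b₀⁻¹ ∧
      ∀ x ∈ (P : Subgroup G), ∀ y ∈ (P : Subgroup G),
        x * y * x⁻¹ * y⁻¹ = 1 ∨ x * y * x⁻¹ * y⁻¹ = z := by
  set D := commutator ↥(P : Subgroup G)
  have hmem : ∀ x y : ↥(P : Subgroup G), x * y * x⁻¹ * y⁻¹ ∈ D := fun x y =>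
    Subgroup.commutator_mem_commutator (mem_top x) (mem_top y)
  set c : D := ⟨_, hmem ⟨a₀, ha⟩ ⟨b₀, hb⟩⟩
  have hc1 : (c : ↥(P : Subgroup G)) ≠ 1 := fun h => hne (by
    have h' : a₀ * b₀ * a₀⁻¹ * b₀⁻¹ = 1 := congrArg Subtype.val h
    exact commutatorElement_eq_one_iff_mul_comm.1 h')
  have h2 : Nat.card D = 2 := by
    have h : Nat.card D ≤ 2 := card_commutator_le hk
    have : 1 < Nat.card D := Finite.one_lt_card_iff_nontrivial.2
      ⟨⟨c, 1, fun e => hc1 (congrArg Subtype.val e)⟩⟩
    omega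
  obtain ⟨w, -, hw⟩ := (Nat.card_eq_two_iff' (1 : D)).1 h2
  have hcw : c = w := hw c fun e => hc1 (congrArg Subtype.val e)
  refine ⟨a₀ * b₀ * a₀⁻¹ * b₀⁻¹, ((c : ↥(P : Subgroup G))).2,
    fun h => hc1 (Subtype.ext h), ?_, rfl, fun x hx y hy => ?_⟩
  · have h := pow_card_eq_one' (x := c)
    rw [h2, sq] at h
    exact congrArg (fun d : D => ((d : ↥(P : Subgroup G)) : G)) h
  · by_cases h1 : (⟨_, hmem ⟨x, hx⟩ ⟨y, hy⟩⟩ : D) = 1
    · exact Or.inl (congrArg (fun d : D => ((d : ↥(P : Subgroup G)) : G)) h1)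
    · exact Or.inr (congrArg (fun d : D => ((d : ↥(P : Subgroup G)) : G)) ((hw _ h1).trans hcw.symm))

/-- The group is not a 2-group. -/
theorem not_isPGroup : ¬ IsPGroup 2 G := by
  classical
  intro hp
  haveI : Fact (Nat.Prime 2) := ⟨Nat.prime_two⟩
  haveI := Fintype.ofFinite ↥(P : Subgroup G)
  have htop : (P : Subgroup G) = ⊤ :=
    (P.3 (hp.to_subgroup ⊤) le_top).symm
  have hfib : ∀ x : ↥(P : Subgroup G),
      (if (x : G) ∈ center G then 2 else 1) * fib (classMap P) x ≤ 2 := by
    intro x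
    split_ifs with hxc
    · have : fib (classMap P) x ≤ 1 := by
        rw [fib, Nat.card_eq_fintype_card, Fintype.card_le_one_iff]
        rintro ⟨a, ha⟩ ⟨b, hb⟩
        have key : ∀ c, classMap P c = classMap P x → c = x := fun c hc => by
          obtain ⟨g, hg⟩ := isConj_iff.1 ((classMap_eq_iff P).1 hc).symm
          rw [mem_center_iff.1 hxc g, mul_inv_cancel_right] at hg
          exact Subtype.ext hg.symm
        exact Subtype.ext ((key a ha).trans (key b hb).symm)
      omega
    · have h2 := card_commutator_le hk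
      rw [one_mul]
      refine le_trans (Nat.card_le_card_of_injective
        (fun a : {a' // classMap P a' = classMap P x} =>
          (⟨a.1 * x⁻¹, ?_⟩ : commutator ↥(P : Subgroup G))) ?_) h2
      · obtain ⟨g, hg⟩ := isConj_iff.1 ((classMap_eq_iff P).1 a.2).symm
        have e : a.1 * x⁻¹ = ⟨g, htop ▸ mem_top g⟩ * x * ⟨g, htop ▸ mem_top g⟩⁻¹ * x⁻¹ :=
          Subtype.ext (by
            show (a.1 : G) * (x : G)⁻¹ = g * x * g⁻¹ * (x : G)⁻¹
            rw [hg])
        rw [e]
        exact Subgroup.commutator_mem_commutator (mem_top _) (mem_top _)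
      · intro a b hab
        exact Subtype.ext (mul_right_cancel (congrArg Subtype.val hab))
  have h := sum_le_mul_card (classMap P) 2 _ hfib
  have hsum : ∑ x : ↥(P : Subgroup G), (if (x : G) ∈ center G then 2 else 1) =
      Nat.card ↥(P : Subgroup G) + 1 * Nat.card (center G) := by
    rw [← sum_ite_mem P (center G) (center_le hO) 1, Nat.card_eq_fintype_card, ← Finset.card_univ,
      Finset.card_eq_sum_ones, ← Finset.sum_add_distrib]
    exact Finset.sum_congr rfl fun x _ => by split_ifs <;> rfl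
  rw [hsum, hk] at h
  have := Nat.card_pos (α := center G)
  omega

theorem oddCore_quot : Cfsg.pPrimeCore 2 (G ⧸ center G) = ⊥ := by
  set π := QuotientGroup.mk' (center G)
  set N := Cfsg.pPrimeCore 2 (G ⧸ center G)
  have hZK : center G ≤ N.comap π := fun z hz => by
    show π z ∈ N
    rw [show π z = 1 from (QuotientGroup.eq_one_iff z).2 hz]; exact one_mem _
  have hidx : ((center G).subgroupOf (N.comap π)).index = Nat.card N := by
    have h := relIndex_ker (N.comap π) π
    rw [map_comap_eq_self_of_surjective (QuotientGroup.mk'_surjective _),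
      show π.ker = center G from QuotientGroup.ker_mk' _] at h
    exact h
  have h := le_of_central_two hO (isPGroup_center hO) le_rfl hZK
    (by rw [hidx]; exact odd_pPrimeCore _)
  refine (eq_bot_iff_forall _).2 fun q hq => ?_
  obtain ⟨g, rfl⟩ := QuotientGroup.mk'_surjective (center G) q
  exact (QuotientGroup.eq_one_iff g).2 (h hq)

theorem not_isPGroup_quot : ¬ IsPGroup 2 (G ⧸ center G) := fun h => by
  refine not_isPGroup hO hk fun g => ?_
  obtain ⟨i, hi⟩ := h (g : G ⧸ center G)
  rw [← QuotientGroup.mk_pow, QuotientGroup.eq_one_iff] at hi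
  obtain ⟨j, hj⟩ := isPGroup_center hO ⟨_, hi⟩
  exact ⟨i + j, by rw [pow_add, pow_mul]; exact congrArg Subtype.val hj⟩

theorem classes_quot :
    Nat.card (FGSA.pClasses 2 G) ≤ Nat.card (center G) * Nat.card (FGSA.pClasses 2 (G ⧸ center G)) := by
  classical
  haveI : Fact (Nat.Prime 2) := ⟨Nat.prime_two⟩
  set π := QuotientGroup.mk' (center G)
  have hπ : Function.Surjective π := QuotientGroup.mk'_surjective _
  choose r hr using fun c : FGSA.pClasses 2 (G ⧸ center G) =>
    (ConjClasses.exists_rep c.1 : ∃ q, ConjClasses.mk q = c.1)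
  choose s hs using fun c => hπ (r c)
  let F : center G × FGSA.pClasses 2 (G ⧸ center G) → ConjClasses G := fun p =>
    ConjClasses.mk ((p.1 : G) * s p.2)
  rw [← Nat.card_prod]
  refine (Nat.card_le_card_of_injective (fun c : FGSA.pClasses 2 G =>
    (⟨c.1, ?_⟩ : Set.range F)) fun a b h => Subtype.ext (congrArg Subtype.val h :)).trans
      (Finite.card_range_le F)
  obtain ⟨x, rfl⟩ := classMap_surjective P c
  obtain ⟨d, hd⟩ : ∃ d : FGSA.pClasses 2 (G ⧸ center G), d = classMap (P.mapSurjective hπ) ⟨π x, x, x.2, rfl⟩ :=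
    ⟨_, rfl⟩
  have hc : IsConj (r d) (π x) := by
    rw [← ConjClasses.mk_eq_mk_iff_isConj, hr, hd]
    rfl
  obtain ⟨q, hq⟩ := isConj_iff.1 hc
  obtain ⟨g, rfl⟩ := hπ q
  have hmem : (x : G) * (g * s d * g⁻¹)⁻¹ ∈ center G := (QuotientGroup.eq_one_iff _).1 (by
    show π _ = 1
    rw [map_mul, map_inv, map_mul, map_mul, map_inv, hs, hq, mul_inv_cancel])
  refine ⟨(⟨_, hmem⟩, d), ?_⟩
  show ConjClasses.mk _ = ConjClasses.mk _
  refine ConjClasses.mk_eq_mk_iff_isConj.2 (isConj_iff.2 ⟨g, ?_⟩)
  show g * ((x : G) * (g * s d * g⁻¹)⁻¹ * s d) * g⁻¹ = x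
  rw [← mul_assoc g, mem_center_iff.1 hmem g]
  group

/-- Some element of odd order acts on `P` when `P` is abelian modulo the centre. -/
theorem exists_acting
    (hab : ∀ x ∈ (P : Subgroup G), ∀ y ∈ (P : Subgroup G), x * y * x⁻¹ * y⁻¹ ∈ center G) :
    ∃ g ∈ normalizer ((P : Subgroup G) : Set G), Odd (orderOf g) ∧
      g ∉ centralizer ((P : Subgroup G) : Set G) := by
  haveI : Fact (Nat.Prime 2) := ⟨Nat.prime_two⟩
  by_contra hcon
  push Not at hcon
  set π := QuotientGroup.mk' (center G)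
  have hπ : Function.Surjective π := QuotientGroup.mk'_surjective _
  refine not_isPGroup_quot hO hk (isPGroup_of_complement hO (oddCore_quot hO hk)
    (TransferBasic.hasNormalPComplement_of_le_centralizer (P.mapSurjective hπ) ?_))
  intro q hq
  obtain ⟨n, rfl⟩ := hπ q
  have hn : n ∈ normalizer ((P : Subgroup G) : Set G) := by
    refine mem_normalizer_iff.2 fun x => ?_
    have hcm : ((P : Subgroup G).map π).comap π = (P : Subgroup G) := by
      rw [comap_map_eq, show π.ker = center G from QuotientGroup.ker_mk' _,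
        sup_eq_left.2 (center_le hO)]
    have h := mem_normalizer_iff.1 hq (π x)
    rw [show ∀ y, (π y ∈ ((P.mapSurjective hπ : Sylow 2 _) : Subgroup _)) ↔ y ∈ (P : Subgroup G) from
      fun y => by rw [Sylow.coe_mapSurjective, ← mem_comap, hcm]] at h
    rw [← map_inv, ← map_mul, ← map_mul] at h
    rw [show ∀ y, (π y ∈ ((P.mapSurjective hπ : Sylow 2 _) : Subgroup _)) ↔ y ∈ (P : Subgroup G) from
      fun y => by rw [Sylow.coe_mapSurjective, ← mem_comap, hcm]] at h
    exact h
  obtain ⟨a, ha, b, hb, hodd, rfl⟩ := exists_odd_part P hn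
  refine mem_centralizer_iff.2 fun p hp => ?_
  obtain ⟨x, hx, rfl⟩ := hp
  have hbx : x * b = b * x := mem_centralizer_iff.1 (hcon b hb hodd) x hx
  rw [← map_mul, ← map_mul]
  refine (QuotientGroup.eq.2 ?_).symm
  have h := hab a⁻¹ (inv_mem ha) x⁻¹ (inv_mem hx)
  rw [inv_inv, inv_inv] at h
  have e : (a * b * x)⁻¹ * (x * (a * b)) = b⁻¹ * (a⁻¹ * x⁻¹ * a * x)⁻¹ * b := by
    rw [mul_assoc a b x, ← hbx]
    group
  rw [e]
  have hn' : (center G).Normal := inferInstance
  simpa using hn'.conj_mem _ (inv_mem h) b⁻¹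

/-- The case of an abelian Sylow subgroup. -/
theorem abelian_case (hab : ∀ x ∈ (P : Subgroup G), ∀ y ∈ (P : Subgroup G), x * y = y * x) :
    Nat.card ↥(P : Subgroup G) = 4 * Nat.card (center G) ∧
      ∀ x ∈ (P : Subgroup G), x * x ∈ center G := by
  classical
  haveI : Fact (Nat.Prime 2) := ⟨Nat.prime_two⟩
  haveI := Fintype.ofFinite ↥(P : Subgroup G)
  obtain ⟨g, hgN, hg, hgC⟩ := exists_acting hO hk fun x hx y hy => by
    rw [hab x hx y hy]; simp
  set F := (P : Subgroup G) ⊓ centralizer ({g} : Set G)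
  have hFP : F ≤ (P : Subgroup G) := inf_le_left
  have h4 : 4 * Nat.card F ≤ Nat.card ↥(P : Subgroup G) := by
    have h := FGSA.four_mul_card_centralizer_le P.2 hg hgN hgC
    have e : (centralizer ({g} : Set G)).subgroupOf (P : Subgroup G) = F.subgroupOf (P : Subgroup G) :=
      Subgroup.ext fun x => ⟨fun hx => ⟨x.2, hx⟩, fun hx => hx.2⟩
    rw [e, Nat.card_congr (subgroupOfEquivOfLe hFP).toEquiv] at h
    exact h
  have hfix : ∀ x ∈ (P : Subgroup G), g * x * g⁻¹ = x → x ∈ F := fun x hx h =>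
    ⟨hx, mem_centralizer_singleton_iff.2 (mul_inv_eq_iff_eq_mul.1 h).symm⟩
  have hZF : center G ≤ F := le_inf (center_le hO) fun z hz =>
    mem_centralizer_singleton_iff.2 (mem_center_iff.1 hz g).symm
  have three : ∀ x : ↥(P : Subgroup G), (x : G) ∉ F → 3 ≤ fib (classMap P) x := by
    intro x hxF
    have h1 : g * (x : G) * g⁻¹ ∈ (P : Subgroup G) := (mem_normalizer_iff.1 hgN x).1 x.2
    have h2 := (mem_normalizer_iff.1 hgN _).1 h1
    have hne : g * (x : G) * g⁻¹ ≠ x := fun h => hxF (hfix x x.2 h)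
    refine le_trans ?_ (le_fib (classMap P)
      ({x, ⟨_, h1⟩, ⟨_, h2⟩} : Finset ↥(P : Subgroup G)) fun y hy => ?_)
    · rw [Finset.card_insert_of_notMem, Finset.card_pair]
      · intro h
        exact hne ((MulAut.conj g).injective (congrArg Subtype.val h : (g * (x : G) * g⁻¹ = _))).symm
      · simp only [Finset.mem_insert, Finset.mem_singleton, not_or]
        exact ⟨fun h => hne (congrArg Subtype.val h).symm,
          fun h => hne (eq_of_sq_odd hg (congrArg Subtype.val h).symm)⟩
    · simp only [Finset.mem_insert, Finset.mem_singleton] at hy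
      rcases hy with rfl | rfl | rfl
      · rfl
      · exact classMap_conj P rfl
      · exact classMap_conj P (g := g * g) (by simp only; group)
  have hF : F ≤ center G := by
    intro x₀ hx₀
    by_contra hx
    obtain ⟨w, hw, hne, c, hc⟩ := not_isolated_central hO (hFP hx₀) hx
    set x' : ↥(P : Subgroup G) := ⟨x₀, hFP hx₀⟩
    have h := mul_card_le_sum (classMap P) (classMap_surjective P) 6
      (fun x => if x = x' then 3 else (2 + if (x : G) ∈ F then 4 else 0)) fun x => by
        have h1 := one_le_fib (classMap P) x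
        split_ifs with ha hb
        · subst ha
          have : 2 ≤ fib (classMap P) x' := le_trans (by
              rw [Finset.card_pair fun e => hne (congrArg Subtype.val e).symm])
            (le_fib (classMap P) ({x', ⟨w, hw⟩} : Finset ↥(P : Subgroup G)) fun y hy => by
              simp only [Finset.mem_insert, Finset.mem_singleton] at hy
              rcases hy with rfl | rfl
              · rfl
              · exact classMap_conj P hc)
          omega
        · omega
        · have := three x hb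
          omega
    have hlt : ∑ x : ↥(P : Subgroup G), (if x = x' then 3 else (2 + if (x : G) ∈ F then 4 else 0)) <
        ∑ x : ↥(P : Subgroup G), (2 + if (x : G) ∈ F then 4 else 0) := by
      refine Finset.sum_lt_sum (fun x _ => ?_) ⟨x', Finset.mem_univ _, by simp [x', hx₀]⟩
      split_ifs with ha hb hc' <;> first | omega | (subst ha; exact absurd hx₀ hb)
    rw [Finset.sum_add_distrib, sum_ite_mem P F hFP 4, Finset.sum_const, Finset.card_univ,
      smul_eq_mul, ← Nat.card_eq_fintype_card] at hlt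
    omega
  have heq : F = center G := le_antisymm hF hZF
  have hP : Nat.card ↥(P : Subgroup G) = 4 * Nat.card (center G) := by
    have h := mul_card_le_sum (classMap P) (classMap_surjective P) 6
      (fun x => 2 + if (x : G) ∈ F then 4 else 0) fun x => by
        have h1 := one_le_fib (classMap P) x
        split_ifs with hb
        · omega
        · have := three x hb
          omega
    rw [Finset.sum_add_distrib, sum_ite_mem P F hFP 4, Finset.sum_const, Finset.card_univ,
      smul_eq_mul, ← Nat.card_eq_fintype_card] at h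
    rw [← heq]
    omega
  refine ⟨hP, fun x hx => by_contra fun hxx => ?_⟩
  -- `P` modulo the centre is cyclic: the squares give a fixed subgroup of index 2
  set π := QuotientGroup.mk' (center G)
  set Pb := (P : Subgroup G).map π
  have hcardb : Nat.card Pb = 4 := by
    have h := relIndex_ker (P : Subgroup G) π
    rw [show π.ker = center G from QuotientGroup.ker_mk' _] at h
    have h2 := card_mul_index ((center G).subgroupOf (P : Subgroup G))
    rw [Nat.card_congr (subgroupOfEquivOfLe (center_le hO)).toEquiv, ← relIndex, h, hP,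
      mul_comm 4] at h2
    exact Nat.eq_of_mul_eq_mul_left Nat.card_pos h2
  have hord : zpowers (π x) = Pb := by
    refine eq_of_le_of_card_ge (zpowers_le.2 ⟨x, hx, rfl⟩) ?_
    have hd : orderOf (π x) ∣ 2 ^ 2 := by
      have h := Pb.orderOf_dvd_natCard (show π x ∈ Pb from ⟨x, hx, rfl⟩)
      rwa [hcardb] at h
    obtain ⟨j, hj, hje⟩ := (Nat.dvd_prime_pow Nat.prime_two).1 hd
    rw [hcardb, Nat.card_zpowers, hje]
    by_contra hlt
    have hj2 : j < 2 := by
      by_contra hj2
      exact hlt (le_trans (by norm_num) (Nat.pow_le_pow_right two_pos (not_lt.1 hj2)))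
    refine hxx ((QuotientGroup.eq_one_iff _).1 (?_ : π (x * x) = 1))
    rw [map_mul, ← sq]
    exact orderOf_dvd_iff_pow_eq_one.1 (hje ▸ (pow_dvd_pow 2 (by omega : j ≤ 1)).trans (by norm_num))
  set M := (P : Subgroup G) ⊓ (zpowers (π (x * x))).comap π with hM
  have hgM : g ∈ normalizer (M : Set G) := by
    refine Signalizer.le_normalizer_of_conj_mem (A := zpowers g) (fun b hb m hm => ?_) (mem_zpowers g)
    refine ⟨(mem_normalizer_iff.1 (zpowers_le.2 hgN hb) m).1 hm.1, ?_⟩
    -- squares of `P` lie in `⟨x²⟩` modulo the centre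
    obtain ⟨i, hi⟩ := mem_zpowers_iff.1 (show π m ∈ zpowers (π (x * x)) from hm.2)
    set y := b * x * b⁻¹
    have hy : π y ∈ zpowers (π x) := hord ▸ ⟨y, (mem_normalizer_iff.1 (zpowers_le.2 hgN hb) x).1 hx, rfl⟩
    obtain ⟨l, hl⟩ := mem_zpowers_iff.1 hy
    show π (b * m * b⁻¹) ∈ zpowers (π (x * x))
    have e1 : π b * π x * (π b)⁻¹ = π x ^ l := by rw [hl]; simp [y]
    rw [show π (b * m * b⁻¹) = π b * π m * (π b)⁻¹ by simp, ← hi, ← conj_zpow, map_mul, ← conj_mul, e1,
      ← zpow_add]
    refine zpow_mem ?_ i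
    rw [show l + l = 2 * l by ring, zpow_mul]
    refine zpow_mem ?_ l
    rw [zpow_two]
    exact mem_zpowers _
  have hZM : center G ≤ M := fun z hz => ⟨center_le hO hz, by
    show π z ∈ zpowers _
    rw [show π z = 1 from (QuotientGroup.eq_one_iff z).2 hz]; exact one_mem _⟩
  have hgM' : g ∉ centralizer (M : Set G) := fun h => hxx (hF ⟨mul_mem hx hx,
    mem_centralizer_singleton_iff.2
      (mem_centralizer_iff.1 h (x * x) ⟨mul_mem hx hx, mem_zpowers _⟩)⟩)
  have h5 := FGSA.four_mul_card_centralizer_le (P.2.to_le (inf_le_left : M ≤ (P : Subgroup G))) hg hgM hgM'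
  have h6 : Nat.card (center G) ≤ Nat.card ↥((centralizer ({g} : Set G)).subgroupOf M) :=
    Nat.card_le_card_of_injective (fun z => ⟨⟨z, hZM z.2⟩, (hZF z.2).2⟩) fun a b h =>
      Subtype.ext (congrArg (fun w : ↥((centralizer ({g} : Set G)).subgroupOf M) => ((w : M) : G)) h :)
  have h7 : Nat.card M ≤ 2 * Nat.card (center G) := by
    have hle : M.map π ≤ zpowers (π (x * x)) := by
      rintro _ ⟨m, hm, rfl⟩
      exact hm.2
    have hc2 : Nat.card (M.map π) ≤ 2 := by
      refine (card_le_of_le hle).trans ?_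
      rw [Nat.card_zpowers]
      refine Nat.le_of_dvd two_pos (orderOf_dvd_of_pow_eq_one ?_)
      have h4' : π x ^ 4 = 1 := by
        have h := Pb.orderOf_dvd_natCard (show π x ∈ Pb from ⟨x, hx, rfl⟩)
        rw [hcardb] at h
        exact orderOf_dvd_iff_pow_eq_one.1 h
      rw [map_mul, ← sq, ← pow_mul, h4']
    have h := relIndex_ker M π
    rw [show π.ker = center G from QuotientGroup.ker_mk' _] at h
    have h2 := card_mul_index ((center G).subgroupOf M)
    rw [Nat.card_congr (subgroupOfEquivOfLe hZM).toEquiv, ← relIndex, h] at h2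
    rw [← h2, mul_comm 2]
    exact Nat.mul_le_mul_left _ hc2
  rw [← hM] at h5
  have := Nat.card_pos (α := center G)
  omega

/-- The case of a non-abelian Sylow subgroup. -/
theorem nonabelian_case {a₀ b₀ : G} (ha : a₀ ∈ (P : Subgroup G)) (hb : b₀ ∈ (P : Subgroup G))
    (hne₀ : a₀ * b₀ ≠ b₀ * a₀) :
    Nat.card ↥(P : Subgroup G) = 8 * Nat.card (center G) ∧
      a₀ * b₀ * a₀⁻¹ * b₀⁻¹ ∉ center G ∧
      ∃ y ∈ (P : Subgroup G), y * y = 1 ∧ ∃ s ∈ (P : Subgroup G), s * y * s⁻¹ * y⁻¹ ∉ center G := by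
  classical
  haveI : Fact (Nat.Prime 2) := ⟨Nat.prime_two⟩
  haveI := Fintype.ofFinite ↥(P : Subgroup G)
  obtain ⟨z, hzP, hz1, hz2, hzdef, hz⟩ := exists_z hk ha hb hne₀
  set Zs := (P : Subgroup G) ⊓ centralizer ((P : Subgroup G) : Set G) with hZs
  have hZsP : Zs ≤ (P : Subgroup G) := inf_le_left
  have hcc : center G ≤ Zs := center_le_cent hO
  have hconj : ∀ s ∈ (P : Subgroup G), ∀ x ∈ (P : Subgroup G),
      s * x * s⁻¹ = x ∨ s * x * s⁻¹ = z * x := fun s hs x hx =>
    (hz s hs x hx).imp (fun h => mul_inv_eq_one.1 h) fun h => mul_inv_eq_iff_eq_mul.1 h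
  have hzZ : z ∈ Zs := ⟨hzP, mem_centralizer_iff.2 fun s hs => by
    rcases hconj s hs z hzP with h | h
    · exact mul_inv_eq_iff_eq_mul.1 h
    · rw [hz2] at h; exact absurd (conj_eq_one_iff.1 h) hz1⟩
  have hpair : ∀ x ∈ (P : Subgroup G), x ∉ Zs → ∃ s ∈ (P : Subgroup G), s * x * s⁻¹ = z * x := by
    intro x hx hxZ
    by_contra hcon
    push Not at hcon
    exact hxZ ⟨hx, mem_centralizer_iff.2 fun s hs =>
      mul_inv_eq_iff_eq_mul.1 ((hconj s hs x hx).resolve_right (hcon s hs))⟩
  have hzx : ∀ x : ↥(P : Subgroup G), (x : G) ∉ Zs →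
      classMap P ⟨z * x, mul_mem hzP x.2⟩ = classMap P x := fun x hx => by
    obtain ⟨s, hs, h⟩ := hpair x x.2 hx
    exact classMap_conj P h
  have hzne : ∀ x : ↥(P : Subgroup G), (⟨z * x, mul_mem hzP x.2⟩ : ↥(P : Subgroup G)) ≠ x :=
    fun x h => hz1 (mul_eq_right.1 (congrArg Subtype.val h))
  have two : ∀ x : ↥(P : Subgroup G), (x : G) ∉ Zs → 2 ≤ fib (classMap P) x := fun x hx =>
    le_trans (by rw [Finset.card_pair (hzne x).symm])
      (le_fib (classMap P) ({x, ⟨z * x, mul_mem hzP x.2⟩} : Finset ↥(P : Subgroup G)) fun y hy => by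
        simp only [Finset.mem_insert, Finset.mem_singleton] at hy
        rcases hy with rfl | rfl
        exacts [rfl, hzx x hx])
  have threeZ : ∀ x : ↥(P : Subgroup G), (x : G) ∈ Zs → (x : G) ∉ center G →
      3 ≤ fib (classMap P) x := by
    intro x hxZ hxc
    obtain ⟨w, hw, hne, c, hc⟩ := not_isolated_central hO x.2 hxc
    by_cases hwZ : w ∈ Zs
    · subst hc
      obtain ⟨b, hbN, hbx, hbb⟩ := three_of_fused hO hxZ hwZ hne
      have h1 : b * (x : G) * b⁻¹ ∈ (P : Subgroup G) := (mem_normalizer_iff.1 hbN x).1 x.2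
      have h2 := (mem_normalizer_iff.1 hbN _).1 h1
      refine le_trans ?_ (le_fib (classMap P)
        ({x, ⟨_, h1⟩, ⟨_, h2⟩} : Finset ↥(P : Subgroup G)) fun y hy => ?_)
      · rw [Finset.card_insert_of_notMem, Finset.card_pair]
        · intro h
          exact hne (hbx ▸ ((MulAut.conj b).injective
            (congrArg Subtype.val h : (b * (x : G) * b⁻¹ = _))).symm)
        · simp only [Finset.mem_insert, Finset.mem_singleton, not_or]
          exact ⟨fun h => hne (hbx ▸ (congrArg Subtype.val h).symm),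
            fun h => hbb (congrArg Subtype.val h).symm⟩
      · simp only [Finset.mem_insert, Finset.mem_singleton] at hy
        rcases hy with rfl | rfl | rfl
        · rfl
        · exact classMap_conj P rfl
        · exact classMap_conj P (g := b * b) (by simp only; group)
    · refine le_trans ?_ (le_fib (classMap P)
        ({x, ⟨w, hw⟩, ⟨z * w, mul_mem hzP hw⟩} : Finset ↥(P : Subgroup G)) fun y hy => ?_)
      · rw [Finset.card_insert_of_notMem, Finset.card_pair]
        · exact (hzne ⟨w, hw⟩).symm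
        · simp only [Finset.mem_insert, Finset.mem_singleton, not_or]
          refine ⟨fun h => hne (congrArg Subtype.val h).symm, fun h => hwZ ?_⟩
          have h' : (x : G) = z * w := congrArg Subtype.val h
          have := mul_mem (inv_mem hzZ) hxZ
          rwa [h', inv_mul_cancel_left] at this
      · simp only [Finset.mem_insert, Finset.mem_singleton] at hy
        rcases hy with rfl | rfl | rfl
        · rfl
        · exact classMap_conj P hc
        · exact (hzx ⟨w, hw⟩ hwZ).trans (classMap_conj P hc)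
  have four_le : 4 * Nat.card Zs ≤ Nat.card ↥(P : Subgroup G) := by
    by_contra hlt
    have h2 := card_le_two_of_lt_four P.2 hZsP (not_le.1 hlt)
    have haZ : a₀ ∉ Zs := fun h => hne₀ (mem_centralizer_iff.1 h.2 b₀ hb).symm
    have hsup : Zs < (P : Subgroup G) ⊓ centralizer ({a₀} : Set G) := by
      refine lt_of_le_of_ne (le_inf hZsP fun v hv => mem_centralizer_singleton_iff.2
        (mem_centralizer_iff.1 hv.2 a₀ ha).symm) fun h => haZ ?_
      rw [h]; exact ⟨ha, mem_centralizer_singleton_iff.2 rfl⟩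
    have hall : (P : Subgroup G) ⊓ centralizer ({a₀} : Set G) = (P : Subgroup G) := by
      refine eq_of_le_of_card_ge inf_le_left ?_
      obtain ⟨c, hc⟩ := card_dvd_of_le hsup.le
      have hlt' : Nat.card Zs < Nat.card ↥((P : Subgroup G) ⊓ centralizer ({a₀} : Set G)) :=
        lt_of_not_ge fun h => hsup.ne (eq_of_le_of_card_ge hsup.le h)
      have hc2 : 2 ≤ c := by
        by_contra hc1
        rcases (show c = 0 ∨ c = 1 by omega) with rfl | rfl <;> simp only [mul_zero, mul_one] at hc <;> omega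
      rw [hc]
      exact h2.trans (by rw [mul_comm]; exact Nat.mul_le_mul_left _ hc2)
    exact hne₀ (mem_centralizer_singleton_iff.1 (hall.ge hb).2).symm
  have hzc : z ∉ center G := by
    intro hzc
    obtain ⟨g, hgN, hg, hgC⟩ := exists_acting hO hk fun x hx y hy => by
      rcases hz x hx y hy with h | h <;> rw [h]
      exacts [one_mem _, hzc]
    set F := (P : Subgroup G) ⊓ centralizer ({g} : Set G)
    have hFP : F ≤ (P : Subgroup G) := inf_le_left
    have h4 : 4 * Nat.card F ≤ Nat.card ↥(P : Subgroup G) := by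
      have h := FGSA.four_mul_card_centralizer_le P.2 hg hgN hgC
      have e : (centralizer ({g} : Set G)).subgroupOf (P : Subgroup G) = F.subgroupOf (P : Subgroup G) :=
        Subgroup.ext fun x => ⟨fun hx => ⟨x.2, hx⟩, fun hx => hx.2⟩
      rw [e, Nat.card_congr (subgroupOfEquivOfLe hFP).toEquiv] at h
      exact h
    have h := mul_card_le_sum (classMap P) (classMap_surjective P) 12
      (fun x => 3 + ((if (x : G) ∈ center G then 5 else 0) + ((if (x : G) ∈ Zs then 1 else 0) +
        (if (x : G) ∈ F then 3 else 0)))) fun x => by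
      have h1 := one_le_fib (classMap P) x
      by_cases hx0 : (x : G) ∈ center G
      · have hxZ := hcc hx0
        have hxF : (x : G) ∈ F :=
          ⟨x.2, mem_centralizer_singleton_iff.2 (mem_center_iff.1 hx0 g).symm⟩
        simp only [hx0, hxZ, hxF, if_true]
        omega
      by_cases hxZ : (x : G) ∈ Zs
      · have := threeZ x hxZ hx0
        simp only [hx0, hxZ, if_true, if_false]
        split_ifs <;> omega
      by_cases hxF : (x : G) ∈ F
      · have := two x hxZ
        simp only [hx0, hxZ, hxF, if_true, if_false]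
        omega
      simp only [hx0, hxZ, hxF, if_false, add_zero]
      set y : ↥(P : Subgroup G) := ⟨g * x * g⁻¹, (mem_normalizer_iff.1 hgN x).1 x.2⟩ with hy
      have hne : g * (x : G) * g⁻¹ ≠ x := fun h =>
        hxF ⟨x.2, mem_centralizer_singleton_iff.2 (mul_inv_eq_iff_eq_mul.1 h).symm⟩
      have hne' : g * (x : G) * g⁻¹ ≠ z * x := fun h => hne (eq_of_sq_odd hg (by
        rw [h, ← conj_mul, mem_center_iff.1 hzc g, mul_inv_cancel_right, h, ← mul_assoc, hz2, one_mul]))
      have hyZ : (y : G) ∉ Zs := fun h => hxZ ⟨x.2, mem_centralizer_iff.2 fun p hp => by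
        have h' := mem_centralizer_iff.1 h.2 (g * p * g⁻¹) ((mem_normalizer_iff.1 hgN p).1 hp)
        refine (MulAut.conj g).injective ?_
        show g * (p * x) * g⁻¹ = g * ((x : G) * p) * g⁻¹
        rw [← conj_mul, ← conj_mul]
        exact h'⟩
      have h4' : 4 ≤ fib (classMap P) x := le_trans (le_of_eq (by
          rw [Finset.card_insert_of_notMem, Finset.card_insert_of_notMem, Finset.card_pair]
          · exact (hzne y).symm
          · simp only [Finset.mem_insert, Finset.mem_singleton, not_or]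
            exact ⟨fun h => hne' (congrArg Subtype.val h).symm,
              fun h => hne (mul_left_cancel (congrArg Subtype.val h : z * (x : G) = z * _)).symm⟩
          · simp only [Finset.mem_insert, Finset.mem_singleton, not_or]
            refine ⟨(hzne x).symm, fun h => hne (congrArg Subtype.val h).symm, fun h => hne' ?_⟩
            have h' : (x : G) = z * (g * x * g⁻¹) := congrArg Subtype.val h
            conv_rhs => rw [h']
            rw [← mul_assoc, hz2, one_mul]))
        (le_fib (classMap P) ({x, ⟨z * x, mul_mem hzP x.2⟩, y, ⟨z * y, mul_mem hzP y.2⟩} :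
          Finset ↥(P : Subgroup G)) fun v hv => by
          simp only [Finset.mem_insert, Finset.mem_singleton] at hv
          rcases hv with rfl | rfl | rfl | rfl
          · rfl
          · exact hzx x hxZ
          · exact classMap_conj P rfl
          · exact (hzx y hyZ).trans (classMap_conj P rfl))
      omega
    rw [Finset.sum_add_distrib, Finset.sum_add_distrib, Finset.sum_add_distrib,
      sum_ite_mem P (center G) (center_le hO) 5, sum_ite_mem P Zs hZsP 1, sum_ite_mem P F hFP 3,
      Finset.sum_const, Finset.card_univ, smul_eq_mul, ← Nat.card_eq_fintype_card] at h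
    have := card_le_of_le hcc
    have := Nat.card_pos (α := center G)
    omega
  -- `z` is fused with an element outside the centre of `P`
  obtain ⟨y, hyP, hyne, c, hcy⟩ := not_isolated_central hO hzP hzc
  have hyZ : y ∉ Zs := by
    intro hyZ
    subst hcy
    obtain ⟨b, hbN, hbz, -⟩ := three_of_fused hO hzZ hyZ hyne
    have hb' : ∀ p ∈ (P : Subgroup G), b * p * b⁻¹ ∈ (P : Subgroup G) := fun p hp =>
      (mem_normalizer_iff.1 hbN p).1 hp
    have e : b * z * b⁻¹ =
        (b * a₀ * b⁻¹) * (b * b₀ * b⁻¹) * (b * a₀ * b⁻¹)⁻¹ * (b * b₀ * b⁻¹)⁻¹ := by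
      rw [hzdef]; group
    rcases hz _ (hb' a₀ ha) _ (hb' b₀ hb) with h | h <;> rw [← e] at h
    · exact hz1 (conj_eq_one_iff.1 h)
    · exact hyne (hbz ▸ h)
  have hy2 : y * y = 1 := by rw [← hcy, conj_mul, hz2, mul_one, mul_inv_cancel]
  obtain ⟨s, hs, hsy⟩ := hpair y hyP hyZ
  -- the weights: `|Z(P)| = 2 |Z(G)|`
  have hZ2 : Nat.card Zs = 2 * Nat.card (center G) := by
    have h := mul_card_le_sum (classMap P) (classMap_surjective P) 12
      (fun x => if (x : G) ∈ center G then 12 else if (x : G) ∈ Zs then 4 else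
        if (x : G) = y then 4 else 6) fun x => by
      have h1 := one_le_fib (classMap P) x
      split_ifs with h0 hZ hy'
      · omega
      · have := threeZ x hZ h0
        omega
      · have h3 : 3 ≤ fib (classMap P) x := le_trans (le_of_eq (by
            rw [Finset.card_insert_of_notMem, Finset.card_pair]
            · exact (hzne x).symm
            · simp only [Finset.mem_insert, Finset.mem_singleton, not_or]
              refine ⟨fun h => hZ (congrArg Subtype.val h ▸ hzZ), fun h => hZ ?_⟩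
              have h' : z = z * (x : G) := congrArg Subtype.val h
              rw [left_eq_mul] at h'
              rw [h']; exact one_mem _))
          (le_fib (classMap P) ({⟨z, hzP⟩, x, ⟨z * x, mul_mem hzP x.2⟩} :
            Finset ↥(P : Subgroup G)) fun v hv => by
            simp only [Finset.mem_insert, Finset.mem_singleton] at hv
            rcases hv with rfl | rfl | rfl
            · exact (classMap_conj P (x := x) (y := ⟨z, hzP⟩) (by rw [hy']; exact hcy)).symm
            · rfl
            · exact hzx x hZ)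
        omega
      · have := two x hZ
        omega
    have hle : ∀ x : ↥(P : Subgroup G), (if (x : G) ∈ center G then 12 else
        if (x : G) ∈ Zs then 4 else if (x : G) = y then 4 else 6) +
          ((if (x : G) ∈ Zs then 2 else 0) + (if x = ⟨y, hyP⟩ then 2 else 0)) =
        6 + (if (x : G) ∈ center G then 8 else 0) := by
      intro x
      have hiff : x = ⟨y, hyP⟩ ↔ (x : G) = y := Subtype.ext_iff
      by_cases h0 : (x : G) ∈ center G
      · have : ¬ x = ⟨y, hyP⟩ := fun h => hyZ (hcc (hiff.1 h ▸ h0))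
        simp [h0, hcc h0, this]
      by_cases hZ : (x : G) ∈ Zs
      · have : ¬ x = ⟨y, hyP⟩ := fun h => hyZ (hiff.1 h ▸ hZ)
        simp [h0, hZ, this]
      by_cases hy' : (x : G) = y
      · rw [if_neg h0, if_neg hZ, if_pos hy', if_neg hZ, if_pos (hiff.2 hy'), if_neg h0]
      · rw [if_neg h0, if_neg hZ, if_neg hy', if_neg hZ, if_neg (mt hiff.1 hy'), if_neg h0]
    have hsum := Finset.sum_congr (rfl : (Finset.univ : Finset ↥(P : Subgroup G)) = _)
      fun x _ => hle x
    rw [Finset.sum_add_distrib, Finset.sum_add_distrib, Finset.sum_add_distrib,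
      sum_ite_mem P (center G) (center_le hO) 8, sum_ite_mem P Zs hZsP 2,
      Finset.sum_ite_eq' Finset.univ (⟨y, hyP⟩ : ↥(P : Subgroup G)) fun _ => 2,
      if_pos (Finset.mem_univ _), Finset.sum_const, Finset.card_univ, smul_eq_mul,
      ← Nat.card_eq_fintype_card] at hsum
    have h2 := card_le_two_of_lt_four (P.2.to_le hZsP) hcc (by omega)
    have hlt : Nat.card (center G) < Nat.card Zs := lt_of_not_ge fun hge =>
      hzc (eq_of_le_of_card_ge hcc hge ▸ hzZ)
    obtain ⟨q, hq⟩ := card_dvd_of_le hcc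
    rcases (show q = 0 ∨ q = 1 ∨ q = 2 ∨ 3 ≤ q by omega) with rfl | rfl | rfl | h3
    · simp only [mul_zero] at hq
      omega
    · simp only [mul_one] at hq
      omega
    · rw [hq, mul_comm]
    · have := Nat.mul_le_mul_left (Nat.card (center G)) h3
      omega
  -- `C_P(y)` is abelian of index 2
  set C := (P : Subgroup G) ⊓ centralizer ({y} : Set G) with hC
  have hmem : ∀ p ∈ (P : Subgroup G), p ∉ C → p * y * p⁻¹ = z * y := fun p hp hpC =>
    (hconj p hp y hyP).resolve_left fun h =>
      hpC ⟨hp, mem_centralizer_singleton_iff.2 (mul_inv_eq_iff_eq_mul.1 h)⟩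
  have hzy : ∀ p ∈ (P : Subgroup G), p * z * p⁻¹ = z := fun p hp => by
    rw [mem_centralizer_iff.1 hzZ.2 p hp, mul_inv_cancel_right]
  have hle2 := Nat.card_le_card_of_surjective
    (Sum.elim (fun p : C => (⟨p, p.2.1⟩ : ↥(P : Subgroup G)))
      (fun p : C => (⟨s * p, mul_mem hs p.2.1⟩ : ↥(P : Subgroup G)))) (by
    intro p
    by_cases hp : (p : G) ∈ C
    · exact ⟨Sum.inl ⟨p, hp⟩, rfl⟩
    · refine ⟨Sum.inr ⟨s⁻¹ * p, (P : Subgroup G).mul_mem ((P : Subgroup G).inv_mem hs) p.2, mem_centralizer_singleton_iff.2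
        (mul_inv_eq_iff_eq_mul.1 ?_)⟩, Subtype.ext (mul_inv_cancel_left s (p : G))⟩
      calc s⁻¹ * (p : G) * y * (s⁻¹ * p)⁻¹ = s⁻¹ * ((p : G) * y * (p : G)⁻¹) * s := by group
        _ = (s⁻¹ * z * s⁻¹⁻¹) * (s⁻¹ * y * s) := by rw [hmem p p.2 hp]; group
        _ = z * (s⁻¹ * y * s) := by rw [hzy _ (inv_mem hs)]
        _ = s⁻¹ * (z * y) * s := by
          rw [show s⁻¹ * (z * y) * s = (s⁻¹ * z * s⁻¹⁻¹) * (s⁻¹ * y * s) by group,
            hzy _ (inv_mem hs)]
        _ = y := by rw [← hsy]; group)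
  rw [Nat.card_sum] at hle2
  have hCab : ∀ p ∈ C, ∀ q ∈ C, p * q = q * p := by
    intro p hp q hq
    by_contra hpq
    obtain ⟨R, hR⟩ := ((P.2.to_le (inf_le_left : C ≤ (P : Subgroup G))).map
      (MulAut.conj c⁻¹).toMonoidHom).comap_of_injective (centralizer ({z} : Set G)).subtype
        (centralizer ({z} : Set G)).subtype_injective |>.exists_le_sylow
    have hPz : (P : Subgroup G) ≤ centralizer ({z} : Set G) := fun v hv =>
      mem_centralizer_singleton_iff.2 (mem_centralizer_iff.1 hzZ.2 v hv)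
    obtain ⟨d, hd⟩ := MulAction.exists_smul_eq (centralizer ({z} : Set G)) R (P.subtype hPz)
    set e := (d : G) * c⁻¹ with he
    have hmove : ∀ v ∈ C, e * v * e⁻¹ ∈ (P : Subgroup G) := by
      intro v hv
      have hvc : c⁻¹ * v * c ∈ centralizer ({z} : Set G) := mem_centralizer_singleton_iff.2 (by
        have h' : v * y = y * v := mem_centralizer_singleton_iff.1 hv.2
        rw [← hcy] at h'
        calc c⁻¹ * v * c * z = c⁻¹ * (v * (c * z * c⁻¹)) * c := by group
          _ = z * (c⁻¹ * v * c) := by rw [h']; group)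
      have h1 : d * ⟨_, hvc⟩ * d⁻¹ ∈ (P.subtype hPz : Subgroup (centralizer ({z} : Set G))) := by
        rw [← hd]
        have hR' : (⟨_, hvc⟩ : centralizer ({z} : Set G)) ∈
            (R : Subgroup (centralizer ({z} : Set G))) :=
          hR ⟨v, hv, show c⁻¹ * v * c⁻¹⁻¹ = c⁻¹ * v * c by group⟩
        exact smul_mem_pointwise_smul ⟨_, hvc⟩ (MulAut.conj d)
          (R : Subgroup (centralizer ({z} : Set G))) hR'
      have h2 : (d : G) * (c⁻¹ * v * c) * (d : G)⁻¹ ∈ (P : Subgroup G) := h1
      rwa [show e * v * e⁻¹ = (d : G) * (c⁻¹ * v * c) * (d : G)⁻¹ by rw [he]; group]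
    have hey : e * y * e⁻¹ = z := by
      calc e * y * e⁻¹ = (d : G) * z * (d : G)⁻¹ := by rw [he, ← hcy]; group
        _ = z := by rw [mem_centralizer_singleton_iff.1 d.2, mul_inv_cancel_right]
    have hpq' : p * q * p⁻¹ * q⁻¹ = z := (hz p hp.1 q hq.1).resolve_left fun h =>
      hpq (commutatorElement_eq_one_iff_mul_comm.1 h)
    have e1 : e * z * e⁻¹ =
        (e * p * e⁻¹) * (e * q * e⁻¹) * (e * p * e⁻¹)⁻¹ * (e * q * e⁻¹)⁻¹ := by
      rw [← hpq']; group
    rcases hz _ (hmove p hp) _ (hmove q hq) with h | h <;> rw [← e1] at h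
    · exact hz1 (conj_eq_one_iff.1 h)
    · exact hyne ((MulAut.conj e).injective (h.trans hey.symm : (e * z * e⁻¹ = _))).symm
  have hsC : s ∉ C := fun h => by
    have := mul_inv_eq_iff_eq_mul.2 (mem_centralizer_singleton_iff.1 h.2)
    rw [hsy] at this
    exact hz1 (mul_eq_right.1 this)
  have hC2 : Nat.card C ≤ 2 * Nat.card ↥(C ⊓ Zs) := by
    by_cases hall : ∀ v ∈ C, v ∈ Zs
    · rw [inf_eq_left.2 hall]; omega
    push Not at hall
    obtain ⟨v, hv, hvZ⟩ := hall
    have hcz : ∀ w ∈ C, s * w * s⁻¹ = w → w ∈ Zs := fun w hw hsw => ⟨hw.1, mem_centralizer_iff.2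
      fun p hp => by
        obtain ⟨q, hq⟩ : ∃ q : C, p = q ∨ p = s * q := by
          by_cases hpC : p ∈ C
          · exact ⟨⟨p, hpC⟩, Or.inl rfl⟩
          · refine ⟨⟨s⁻¹ * p, (P : Subgroup G).mul_mem ((P : Subgroup G).inv_mem hs) hp, mem_centralizer_singleton_iff.2 ?_⟩,
              Or.inr (mul_inv_cancel_left s p).symm⟩
            calc s⁻¹ * p * y = s⁻¹ * (p * y * p⁻¹) * p := by group
              _ = s⁻¹ * (s * y * s⁻¹) * p := by rw [hmem p hp hpC, hsy]
              _ = y * (s⁻¹ * p) := by group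
        have hsw' : s * w = w * s := mul_inv_eq_iff_eq_mul.1 hsw
        rcases hq with rfl | rfl
        · exact (hCab _ q.2 w hw)
        · rw [mul_assoc, hCab _ q.2 w hw, ← mul_assoc, hsw', mul_assoc]⟩
    rw [two_mul, ← Nat.card_sum]
    refine Nat.card_le_card_of_surjective
      (Sum.elim (fun w : ↥(C ⊓ Zs) => (⟨w, w.2.1⟩ : C))
        (fun w : ↥(C ⊓ Zs) => (⟨v * w, mul_mem hv w.2.1⟩ : C))) fun w => ?_
    by_cases hw : (w : G) ∈ Zs
    · exact ⟨Sum.inl ⟨w, w.2, hw⟩, rfl⟩
    · refine ⟨Sum.inr ⟨v⁻¹ * w, C.mul_mem (C.inv_mem hv) w.2, hcz _ (C.mul_mem (C.inv_mem hv) w.2) ?_⟩,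
        Subtype.ext (mul_inv_cancel_left v (w : G))⟩
      have h1 := (hconj s hs v hv.1).resolve_left fun h => hvZ (hcz v hv h)
      have h2 := (hconj s hs w w.2.1).resolve_left fun h => hw (hcz w w.2 h)
      rw [← conj_mul, show s * v⁻¹ * s⁻¹ = (s * v * s⁻¹)⁻¹ by group, h1, h2]
      group
  refine ⟨?_, hzdef ▸ hzc, y, hyP, hy2, s, hs, ?_⟩
  · have := card_le_of_le (inf_le_right : C ⊓ Zs ≤ Zs)
    omega
  · rwa [hsy, mul_inv_cancel_right]

/-- The Sylow 2-subgroups modulo the centre are dihedral of order 4 or 8. -/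
theorem sylow_quot :
    ∃ (T : Sylow 2 (G ⧸ center G)) (n : ℕ), (n = 2 ∨ n = 4) ∧
      Nonempty ((T : Subgroup (G ⧸ center G)) ≃* DihedralGroup n) ∧
      Nat.card ↥(T : Subgroup (G ⧸ center G)) * Nat.card (center G) = Nat.card ↥(P : Subgroup G) := by
  classical
  haveI : Fact (Nat.Prime 2) := ⟨Nat.prime_two⟩
  set π := QuotientGroup.mk' (center G)
  have hπ : Function.Surjective π := QuotientGroup.mk'_surjective _
  set T := P.mapSurjective hπ
  have hT : (T : Subgroup (G ⧸ center G)) = (P : Subgroup G).map π := Sylow.coe_mapSurjective hπ P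
  have hcard : Nat.card ↥(T : Subgroup (G ⧸ center G)) * Nat.card (center G) =
      Nat.card ↥(P : Subgroup G) := by
    have h := relIndex_ker (P : Subgroup G) π
    rw [show π.ker = center G from QuotientGroup.ker_mk' _] at h
    rw [← card_mul_index ((center G).subgroupOf (P : Subgroup G)),
      Nat.card_congr (subgroupOfEquivOfLe (center_le hO)).toEquiv, ← relIndex, h, hT, mul_comm]
  by_cases hab : ∀ x ∈ (P : Subgroup G), ∀ y ∈ (P : Subgroup G), x * y = y * x
  · obtain ⟨h4, hsq⟩ := abelian_case hO hk hab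
    refine ⟨T, 2, Or.inl rfl, ?_, hcard⟩
    have hT4 : Nat.card ↥(T : Subgroup (G ⧸ center G)) = 4 :=
      Nat.eq_of_mul_eq_mul_right Nat.card_pos (hcard.trans h4)
    haveI : IsKleinFour ↥(T : Subgroup (G ⧸ center G)) := DihFour.isKleinFour_mk hT4 fun q hq => by
      rw [hT] at hq
      obtain ⟨x, hx, rfl⟩ := hq
      rw [← map_mul]
      exact (QuotientGroup.eq_one_iff _).2 (hsq x hx)
    exact IsKleinFour.nonempty_mulEquiv
  · push Not at hab
    obtain ⟨a₀, ha, b₀, hb, hne⟩ := hab
    obtain ⟨h8, hzc, y, hy, hy2, s, hs, hsy⟩ := nonabelian_case hO hk ha hb hne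
    refine ⟨T, 4, Or.inr rfl, ?_, hcard⟩
    have hT8 : Nat.card ↥(T : Subgroup (G ⧸ center G)) = 8 :=
      Nat.eq_of_mul_eq_mul_right Nat.card_pos (hcard.trans h8)
    have hmemT : ∀ x ∈ (P : Subgroup G), π x ∈ (T : Subgroup (G ⧸ center G)) := fun x hx => by
      rw [hT]; exact ⟨x, hx, rfl⟩
    obtain ⟨x, hxP, hxx⟩ : ∃ x ∈ (P : Subgroup G), x * x ∉ center G := by
      by_contra hcon
      push Not at hcon
      refine hzc ((QuotientGroup.eq_one_iff _).1 ?_)
      show π _ = 1
      have hinv : ∀ v ∈ (P : Subgroup G), (π v)⁻¹ = π v := fun v hv => inv_eq_of_mul_eq_one_right (by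
        rw [← map_mul]; exact (QuotientGroup.eq_one_iff _).2 (hcon v hv))
      rw [map_mul, map_mul, map_mul, map_inv, map_inv, hinv a₀ ha, hinv b₀ hb,
        mul_assoc (π a₀ * π b₀), ← map_mul π a₀ b₀, ← map_mul]
      exact (QuotientGroup.eq_one_iff _).2 (hcon _ (mul_mem ha hb))
    have hyb2 : π y * π y = 1 := by rw [← map_mul, hy2, map_one]
    have hne4 : π x ^ 2 ≠ 1 := fun h => hxx ((QuotientGroup.eq_one_iff _).1 (by
      show π _ = 1
      rw [map_mul, ← sq, h]))
    have hsyb : π s * π y ≠ π y * π s := fun h => hsy ((QuotientGroup.eq_one_iff _).1 (by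
      show π _ = 1
      rw [map_mul, map_mul, map_mul, map_inv, map_inv, h]; group))
    have hord : ∀ q ∈ (T : Subgroup (G ⧸ center G)), q ^ 8 = 1 := fun q hq => by
      rw [← hT8]; exact congrArg Subtype.val (pow_card_eq_one' (x := (⟨q, hq⟩ : ↥(T : Subgroup _))))
    have h8x : orderOf (π x) ∣ 2 ^ 3 := orderOf_dvd_of_pow_eq_one (by norm_num; exact hord _ (hmemT x hxP))
    obtain ⟨j, hj, hje⟩ := (Nat.dvd_prime_pow Nat.prime_two).1 h8x
    have hZT : zpowers (π x) ≤ (T : Subgroup (G ⧸ center G)) := zpowers_le.2 (hmemT x hxP)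
    have hj2 : j = 2 := by
      rcases (show j ≤ 1 ∨ j = 2 ∨ j = 3 by omega) with h | h | h
      · exact absurd (orderOf_dvd_iff_pow_eq_one.1 (hje ▸ (pow_dvd_pow 2 h).trans (by norm_num))) hne4
      · exact h
      · exfalso
        have e : zpowers (π x) = (T : Subgroup (G ⧸ center G)) :=
          eq_of_le_of_card_ge hZT (by rw [hT8, Nat.card_zpowers, hje, h]; norm_num)
        obtain ⟨i, hi⟩ := mem_zpowers_iff.1 (e.symm ▸ hmemT s hs)
        obtain ⟨l, hl⟩ := mem_zpowers_iff.1 (e.symm ▸ hmemT y hy)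
        exact hsyb (by rw [← hi, ← hl, ← zpow_add, ← zpow_add, add_comm])
    subst hj2
    have hx4 : π x ^ 4 = 1 := by rw [show (4 : ℕ) = orderOf (π x) by rw [hje]; norm_num, pow_orderOf_eq_one]
    set A := (zpowers (π x)).subgroupOf (T : Subgroup (G ⧸ center G))
    have hA4 : Nat.card A = 4 := by
      rw [Nat.card_congr (subgroupOfEquivOfLe hZT).toEquiv, Nat.card_zpowers, hje]; norm_num
    have hidx : A.index = 2 := by
      have h := A.card_mul_index
      rw [hT8, hA4] at h
      omega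
    haveI : A.Normal := normal_of_index_eq_two hidx
    have hyA : π y ∉ zpowers (π x) := by
      intro h
      obtain ⟨l, hl⟩ := mem_zpowers_iff.1 h
      -- an involution of the cyclic normal subgroup of order four is central
      refine hsyb ?_
      have hconjA : π s * π x * (π s)⁻¹ ∈ zpowers (π x) :=
        (inferInstance : A.Normal).conj_mem ⟨π x, hmemT x hxP⟩ (mem_zpowers (π x)) ⟨π s, hmemT s hs⟩
      obtain ⟨i, hi⟩ := mem_zpowers_iff.1 hconjA
      have e : π s * π y * (π s)⁻¹ = π y ^ i := by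
        rw [← hl, ← conj_zpow, ← hi, ← zpow_mul, ← zpow_mul, mul_comm]
      rcases Int.even_or_odd i with ⟨r, hr⟩ | ⟨r, hr⟩
      · rw [hr, ← two_mul, zpow_mul, zpow_two, hyb2, one_zpow, conj_eq_one_iff] at e
        rw [e, mul_one, one_mul]
      · rw [hr, zpow_add, zpow_mul, zpow_two, hyb2, one_zpow, one_mul, zpow_one,
          mul_inv_eq_iff_eq_mul] at e
        exact e
    have hgen : closure ({π x, π y} : Set (G ⧸ center G)) = (T : Subgroup (G ⧸ center G)) := by
      refine eq_of_le_of_card_ge ((closure_le _).2 (by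
        rintro q (rfl | rfl)
        exacts [hmemT x hxP, hmemT y hy])) ?_
      have hlt : zpowers (π x) < closure ({π x, π y} : Set (G ⧸ center G)) :=
        lt_of_le_of_ne (zpowers_le.2 (subset_closure (Set.mem_insert _ _))) fun h =>
          hyA (h ▸ subset_closure (Set.mem_insert_of_mem _ rfl))
      have hlt' : Nat.card (zpowers (π x)) < Nat.card ↥(closure ({π x, π y} : Set (G ⧸ center G))) :=
        lt_of_not_ge fun h => hlt.ne (eq_of_le_of_card_ge hlt.le h)
      obtain ⟨q, hq⟩ := card_dvd_of_le hlt.le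
      rw [Nat.card_zpowers, hje] at hq hlt'
      omega
    have hcent : π x * π y ≠ π y * π x := by
      intro h
      have hle : closure ({π x, π y} : Set (G ⧸ center G)) ≤ centralizer ({π y} : Set (G ⧸ center G)) :=
        (closure_le _).2 (by
          rintro q (rfl | rfl)
          exacts [mem_centralizer_singleton_iff.2 h, mem_centralizer_singleton_iff.2 rfl])
      exact hsyb (mem_centralizer_singleton_iff.1 (hle (hgen.ge (hmemT s hs))))
    have hconj : π y * π x * (π y)⁻¹ = (π x)⁻¹ := by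
      have h : π y * π x * (π y)⁻¹ ∈ zpowers (π x) :=
        (inferInstance : A.Normal).conj_mem ⟨π x, hmemT x hxP⟩ (mem_zpowers (π x)) ⟨π y, hmemT y hy⟩
      obtain ⟨i, hi⟩ := mem_zpowers_iff.1 h
      have h4 : (π x) ^ (4 : ℤ) = 1 := by exact_mod_cast hx4
      have hmod : π x ^ i = π x ^ (i % 4) := zpow_eq_zpow_emod i h4
      have h0 := Int.emod_nonneg i (show (4 : ℤ) ≠ 0 by norm_num)
      have h1 := Int.emod_lt_of_pos i (show (0 : ℤ) < 4 by norm_num)
      rcases (show i % 4 = 0 ∨ i % 4 = 1 ∨ i % 4 = 2 ∨ i % 4 = 3 by omega) with e | e | e | e <;>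
        rw [hmod, e] at hi
      · rw [zpow_zero] at hi
        exact absurd (conj_eq_one_iff.1 hi.symm) fun h => hne4 (by rw [h, one_pow])
      · rw [zpow_one] at hi
        exact absurd (mul_inv_eq_iff_eq_mul.1 hi.symm).symm hcent
      · exfalso
        rw [zpow_two] at hi
        refine hne4 ?_
        have := congrArg (fun q => q * q) hi.symm
        simp only [conj_mul] at this
        rw [← sq, ← sq, ← pow_mul, hx4] at this
        exact conj_eq_one_iff.1 this
      · rw [← hi, eq_inv_iff_mul_eq_one, ← zpow_add_one]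
        exact h4
    obtain ⟨e⟩ := SectRankFour.nonempty_dihedral_four hx4 hne4 hyb2 hconj hcent
    exact ⟨(MulEquiv.subgroupCongr hgen.symm).trans e⟩

end CfsgLib.ManyTwoClasses
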